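import Cfsg.Agent.Lib.ShortPres.Plus.Flips
import Cfsg.Agent.Lib.ShortPres.Joint.Main
import Cfsg.Agent.Lib.SteinbergSL.Outer
import Mathlib

/-!
A family of sign changes over a homomorphism from `SL_n` gives a homomorphism from `Ω⁺`.
-/

set_option autoImplicit false
set_option linter.unusedSectionVars false

namespace Cfsg.Agent.ShortPres.Plus

open Equiv Matrix Cfsg.Agent.SimpleFacts.SLnRootLifts Cfsg.Agent.SimpleFacts.SLnCosets
  Cfsg.Agent.SimpleFacts.SLnSystem Cfsg.Agent.CurtisTitsD Cfsg.Agent.Forms Cfsg.Agent.PlusMult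
open Cfsg.Agent.ShortPres.Linear (pm pm_conj)
open scoped commutatorElement

universe u v

variable {n : ℕ} {F : Type u} [Field F] [Finite F] {H : Type v} [Group H]

/-- An unordered pair, read in either order. -/
def Ord {α : Type*} (a b x y : α) : Prop := (x = a ∧ y = b) ∨ (x = b ∧ y = a)

theorem fresh4 {n : ℕ} (h4 : 4 ≤ n) (a b c : Fin n) : ∃ w : Fin n, w ≠ a ∧ w ≠ b ∧ w ≠ c :=
  PlusMult.exists_fresh h4 a b c

/-- The relations between a homomorphism on `SL_n` and the changes of two signs. -/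
structure Net (f : SpecialLinearGroup (Fin n) F →* H) (e : Fin n → Fin n → H) : Prop where
  symm : ∀ {a b}, a ≠ b → e a b = e b a
  sq : ∀ {a b}, a ≠ b → e a b * e a b = 1
  tri : ∀ {a b c}, a ≠ b → a ≠ c → b ≠ c → e a b * e b c = e a c
  conj : ∀ (g : alternatingGroup (Fin n)) {a b}, a ≠ b → f (pm g) * e a b * (f (pm g))⁻¹ = e (g.1 a) (g.1 b)
  fix : ∀ {a b i j}, a ≠ b → i ≠ j → i ≠ a → i ≠ b → j ≠ a → j ≠ b → ∀ t, Commute (e a b) (f (T i j t))
  swp : ∀ {a b}, a ≠ b → ∀ t, e a b * f (T a b t) * (e a b)⁻¹ = f (T b a (-t))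
  cen : ∀ {a b k}, a ≠ b → a ≠ k → b ≠ k → Commute (e b k) (f (wS a b (-1) * wS a b (-1)))
  mid : ∀ {c d k}, c ≠ d → c ≠ k → d ≠ k → ∀ {x y x' y'}, Ord c d x y → Ord c d x' y' → ∀ t t',
    Commute (f (T x y t)) (e d k * f (T x' y' t') * (e d k)⁻¹)
  four : n = 4 → ∀ {a b c d}, a ≠ b → a ≠ c → a ≠ d → b ≠ c → b ≠ d → c ≠ d → ∀ {x y x' y'},
    Ord a b x y → Ord c d x' y' → ∀ t t', Commute (f (T x y t)) (e b d * f (T x' y' t') * (e b d)⁻¹)

namespace Net

variable {f : SpecialLinearGroup (Fin n) F →* H} {e : Fin n → Fin n → H} (N : Net f e)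
include N

theorem inv_e {a b : Fin n} (h : a ≠ b) : (e a b)⁻¹ = e a b := inv_eq_of_mul_eq_one_right (N.sq h)

/-- The twisted root element does not depend on the auxiliary index. -/
theorem indep {z k k' i j : Fin n} (hij : i ≠ j) (hzk : z ≠ k) (hzk' : z ≠ k') (hik : i ≠ k) (hjk : j ≠ k)
    (hik' : i ≠ k') (hjk' : j ≠ k') (t : F) :
    e z k * f (T i j t) * (e z k)⁻¹ = e z k' * f (T i j t) * (e z k')⁻¹ := by
  by_cases h : k = k'
  · rw [h]
  rw [← N.tri hzk' hzk (Ne.symm h)]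
  have hc := N.fix (Ne.symm h) hij hik' hik hjk' hjk t
  calc e z k' * e k' k * f (T i j t) * (e z k' * e k' k)⁻¹
      = e z k' * (e k' k * f (T i j t)) * (e k' k)⁻¹ * (e z k')⁻¹ := by group
    _ = _ := by rw [hc.eq]; group

end Net

variable [Fintype F]

set_option maxHeartbeats 800000 in
/-- The universal property. -/
theorem Net.exists_hom {f : SpecialLinearGroup (Fin n) F →* H} {e : Fin n → Fin n → H} (N : Net f e) (h4 : 4 ≤ n) :
    ∃ φ : commutator (Oplus n F) →* H, (∀ A, φ (levC (by omega) A) = f A) ∧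
      ∀ {a b : Fin n} (h : a ≠ b), φ (fp h) = e a b := by
  classical
  have h3 : 3 ≤ n := by omega
  obtain ⟨d, hd⟩ : ∃ d : Fin n, d.val + 1 = n := ⟨⟨n - 1, by omega⟩, by simp only; omega⟩
  obtain ⟨c, hc⟩ : ∃ c : Fin n, c.val + 2 = n := ⟨⟨n - 2, by omega⟩, by simp only; omega⟩
  have hcd : c ≠ d := fun e => by subst e; omega
  choose k0 hk0 using fun i j => fresh4 h4 i j d
  let Y : Fin n → Fin n → F → H := fun i j t => e d (k0 i j) * f (T i j t) * (e d (k0 i j))⁻¹
  have hYk : ∀ {i j k : Fin n}, i ≠ j → i ≠ k → j ≠ k → d ≠ k → ∀ t,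
      Y i j t = e d k * f (T i j t) * (e d k)⁻¹ := fun {i j k} hij hik hjk hdk t =>
    N.indep hij (hk0 i j).2.2.symm hdk (hk0 i j).1.symm (hk0 i j).2.1.symm hik hjk t
  have hYf : ∀ {i j : Fin n}, i ≠ j → i ≠ d → j ≠ d → ∀ t, Y i j t = f (T i j t) := fun {i j} hij hi hj t => by
    show e d (k0 i j) * f (T i j t) * (e d (k0 i j))⁻¹ = _
    rw [(N.fix (hk0 i j).2.2.symm hij hi (hk0 i j).1.symm hj (hk0 i j).2.1.symm t).eq, mul_inv_cancel_right]
  have hrels : SteinbergSL.Outer.Rels Y fun i j => i ≠ j := by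
    refine ⟨fun i j hij a b => ?_, fun i j k l hij hkl hil hjk a b => ?_, fun i j k hij hjk hik a b => ?_⟩
    · show e d (k0 i j) * f (T i j (a + b)) * _ = e d (k0 i j) * f (T i j a) * _ * (e d (k0 i j) * f (T i j b) * _)
      rw [T_add hij, map_mul]; group
    · by_cases hfree : i ≠ d ∧ j ≠ d ∧ k ≠ d ∧ l ≠ d
      · rw [hYf hij hfree.1 hfree.2.1, hYf hkl hfree.2.2.1 hfree.2.2.2]
        exact (show Commute _ _ from T_comm hij hkl hil hjk a b).map f
      by_cases hfr : ∃ w, w ≠ d ∧ w ≠ i ∧ w ≠ j ∧ w ≠ k ∧ w ≠ l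
      · obtain ⟨w, wd, wi, wj, wk, wl⟩ := hfr
        rw [hYk hij wi.symm wj.symm wd.symm, hYk hkl wk.symm wl.symm wd.symm, Commute.conj_iff]
        exact (show Commute _ _ from T_comm hij hkl hil hjk a b).map f
      push Not at hfr
      have hU : ∀ w, w = d ∨ w = i ∨ w = j ∨ w = k ∨ w = l := fun w => by
        by_contra h
        push Not at h
        exact h.2.2.2.2 (hfr w h.1 h.2.1 h.2.2.1 h.2.2.2.1)
      have hd4 : d = i ∨ d = j ∨ d = k ∨ d = l := by
        by_contra h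
        push Not at h
        exact hfree ⟨h.1.symm, h.2.1.symm, h.2.2.1.symm, h.2.2.2.symm⟩
      have hsub : (Finset.univ : Finset (Fin n)) ⊆ {i, j, k, l} := fun w _ => by
        simp only [Finset.mem_insert, Finset.mem_singleton]
        rcases hU w with h | h | h | h | h
        · subst h; exact hd4
        all_goals simp [h]
      have hcard : n ≤ ({i, j, k, l} : Finset (Fin n)).card := by
        simpa using Finset.card_le_card hsub
      have hn : n = 4 := le_antisymm (hcard.trans Finset.card_le_four) h4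
      have hik : i ≠ k := fun h => by
        subst h
        have e3 : ({i, j, i, l} : Finset (Fin n)) = {i, j, l} := by ext; simp; tauto
        rw [e3] at hcard
        have := Finset.card_le_three (a := i) (b := j) (c := l)
        omega
      have hjl : j ≠ l := fun h => by
        subst h
        have e3 : ({i, j, k, j} : Finset (Fin n)) = {i, j, k} := by ext; simp; tauto
        rw [e3] at hcard
        have := Finset.card_le_three (a := i) (b := j) (c := k)
        omega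
      rcases hd4 with h | h | h | h <;> subst h
      · rw [hYf hkl hik.symm hil.symm, hYk hij hil hjl hil, N.symm hil]
        exact (N.four hn hkl hjk.symm hik.symm hjl.symm hil.symm hij.symm (Or.inl ⟨rfl, rfl⟩)
          (Or.inr ⟨rfl, rfl⟩) _ _).symm
      · rw [hYf hkl hjk.symm hjl.symm, hYk hij hil hjl hjl, N.symm hjl]
        exact (N.four hn hkl hik.symm hjk.symm hil.symm hjl.symm hij (Or.inl ⟨rfl, rfl⟩)
          (Or.inl ⟨rfl, rfl⟩) _ _).symm
      · rw [hYf hij hik hjk, hYk hkl hjk.symm hjl.symm hjk.symm, N.symm hjk.symm]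
        exact N.four hn hij hil hik hjl hjk hkl.symm (Or.inl ⟨rfl, rfl⟩) (Or.inr ⟨rfl, rfl⟩) _ _
      · rw [hYf hij hil hjl, hYk hkl hjk.symm hjl.symm hjl.symm, N.symm hjl.symm]
        exact N.four hn hij hik hil hjk hjl hkl (Or.inl ⟨rfl, rfl⟩) (Or.inl ⟨rfl, rfl⟩) _ _
    · by_cases hfree : i ≠ d ∧ j ≠ d ∧ k ≠ d
      · obtain ⟨hi, hj, hk⟩ := hfree
        rw [hYf hij hi hj, hYf hjk hj hk, hYf hik hi hk, ← map_commutatorElement, T_bracket hik hij hjk]
      obtain ⟨w, wi, wj, wk⟩ := fresh4 h4 i j k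
      have wd : d ≠ w := fun h => hfree ⟨h ▸ wi.symm, h ▸ wj.symm, h ▸ wk.symm⟩
      rw [hYk hij wi.symm wj.symm wd, hYk hjk wj.symm wk.symm wd, hYk hik wi.symm wk.symm wd,
        ← conjugate_commutatorElement, ← map_commutatorElement, T_bracket hik hij hjk]
  obtain ⟨F2, hF2⟩ := SteinbergSL.Outer.exists_hom (by simp; omega) hrels
  let P : Twin n F H :=
    { F1 := f
      F2 := F2
      d := d
      c := c
      hcd := hcd
      top := fun i j hi hj t => by
        by_cases hij : i = j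
        · simp [T, hij]
        · rw [hF2 i j hij, hYf hij hi hj]
      mid := fun t t' => by
        obtain ⟨k, hkc, hkd, -⟩ := fresh4 h4 c d c
        have m : ∀ {x y x' y' : Fin n}, Ord c d x y → Ord c d x' y' → x' ≠ y' →
            Commute (f (T x y t)) (F2 (T x' y' t')) := fun {x y x' y'} h h' hne => by
          rw [hF2 x' y' hne, hYk hne (k := k) ?_ ?_ hkd.symm]
          · exact N.mid hcd hkc.symm hkd.symm h h' t t'
          · rcases h' with ⟨rfl, -⟩ | ⟨rfl, -⟩
            exacts [hkc.symm, hkd.symm]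
          · rcases h' with ⟨-, rfl⟩ | ⟨-, rfl⟩
            exacts [hkd.symm, hkc.symm]
        exact ⟨m (Or.inl ⟨rfl, rfl⟩) (Or.inl ⟨rfl, rfl⟩) hcd, m (Or.inl ⟨rfl, rfl⟩) (Or.inr ⟨rfl, rfl⟩) hcd.symm,
          m (Or.inr ⟨rfl, rfl⟩) (Or.inl ⟨rfl, rfl⟩) hcd, m (Or.inr ⟨rfl, rfl⟩) (Or.inr ⟨rfl, rfl⟩) hcd.symm⟩ }
  have hz : zed P (-1 : Fˣ) = 1 := by
    obtain ⟨k, hkc, hkd, -⟩ := fresh4 h4 c d c
    have hT2 : ∀ x y t, (x = c ∧ y = d ∨ x = d ∧ y = c) →
        F2 (T x y t) = e d k * f (T x y t) * (e d k)⁻¹ := by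
      rintro x y t (⟨rfl, rfl⟩ | ⟨rfl, rfl⟩)
      · rw [hF2 _ _ hcd, hYk hcd hkc.symm hkd.symm hkd.symm]
      · rw [hF2 _ _ hcd.symm, hYk hcd.symm hkd.symm hkc.symm hkd.symm]
    have hX : F2 (dg (hp c d (-1 : Fˣ))) = f (dg (hp c d (-1 : Fˣ))) := by
      rw [dg_hp hcd, show (((-1 : Fˣ)) : F) = -1 from by simp]
      have hw : F2 (wS c d (-1)) = e d k * f (wS c d (-1)) * (e d k)⁻¹ := by
        simp only [wS, map_mul, hT2 c d _ (Or.inl ⟨rfl, rfl⟩), hT2 d c _ (Or.inr ⟨rfl, rfl⟩)]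
        group
      have := (N.cen hcd hkc.symm hkd.symm).eq
      rw [map_mul, hw]
      rw [show e d k * f (wS c d (-1)) * (e d k)⁻¹ * (e d k * f (wS c d (-1)) * (e d k)⁻¹) =
        e d k * f (wS c d (-1) * wS c d (-1)) * (e d k)⁻¹ by rw [map_mul]; group, this, mul_inv_cancel_right,
        map_mul]
    show f (dg (hp c d (-1 : Fˣ))) * F2 (dg (hp c d (-1 : Fˣ))) = 1
    rw [hX, ← map_mul, ← map_mul, ← hp_mul, neg_mul_neg, one_mul, hp_one, map_one, map_one]
  obtain ⟨φ, hφ1, hφ2⟩ := twin_hom h3 P hd hc hz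
  have hval : ∀ {x y : commutator (Oplus n F)}, (x : Oplus n F) = y → φ x = φ y := fun h =>
    congrArg φ (Subtype.ext h)
  -- one change of sign
  have hone : ∀ {z i j k : Fin n}, i ≠ j → i ≠ k → j ≠ k → z ≠ k → ∀ t,
      φ (levC2 h3 z (T i j t)) = e z k * f (T i j t) * (e z k)⁻¹ := by
    intro z i j k hij hik hjk hzk t
    obtain ⟨g, hg⟩ := Alt.exists_move (α := Fin n) (by simp; omega) d z
    have hi : g.1 (g.1⁻¹ i) = i := g.1.apply_symm_apply i
    have hj : g.1 (g.1⁻¹ j) = j := g.1.apply_symm_apply j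
    have hk : g.1 (g.1⁻¹ k) = k := g.1.apply_symm_apply k
    have hdk : d ≠ g.1⁻¹ k := fun h => hzk (by rw [← hg, h, hk])
    have hij' : g.1⁻¹ i ≠ g.1⁻¹ j := g.1⁻¹.injective.ne hij
    have hΩ : φ (levC2 h3 z (T i j t)) =
        φ (levC h3 (pm g) * levC2 h3 d (T (g.1⁻¹ i) (g.1⁻¹ j) t) * (levC h3 (pm g))⁻¹) := hval (by
      show flip n F z * lev n F (T i j t) * (flip n F z)⁻¹ =
        lev n F (pm g) * (flip n F d * lev n F (T (g.1⁻¹ i) (g.1⁻¹ j) t) * (flip n F d)⁻¹) * (lev n F (pm g))⁻¹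
      rw [← hg, ← flip_perm g d, show T i j t = pm g * T (g.1⁻¹ i) (g.1⁻¹ j) t * (pm g)⁻¹ by
        rw [pm_conj g hij', hi, hj], map_mul, map_mul, map_inv]
      group)
    rw [hΩ, map_mul, map_mul, map_inv, hφ1, hφ2, show P.F2 = F2 from rfl, show P.F1 = f from rfl, hF2 _ _ hij',
      hYk hij' (g.1⁻¹.injective.ne hik) (g.1⁻¹.injective.ne hjk) hdk]
    calc _ = f (pm g) * e d (g.1⁻¹ k) * (f (pm g))⁻¹ * (f (pm g) * f (T (g.1⁻¹ i) (g.1⁻¹ j) t) * (f (pm g))⁻¹) *
          (f (pm g) * e d (g.1⁻¹ k) * (f (pm g))⁻¹)⁻¹ := by group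
      _ = _ := by rw [N.conj g hdk, hg, hk, ← map_inv, ← map_mul, ← map_mul, pm_conj g hij', hi, hj]
  -- the changes of two signs act as they should
  have hequiv : ∀ {a b : Fin n} (h : a ≠ b) A, e a b * f A * (e a b)⁻¹ = φ (fp h * levC h3 A * (fp h)⁻¹) := by
    intro a b h A
    suffices hloc : ((MulAut.conj (e a b)).toMonoidHom.comp f).eqLocus
        ((φ.comp (MulAut.conj (fp (F := F) h)).toMonoidHom).comp (levC h3)) = ⊤ from
      (hloc ▸ Subgroup.mem_top A : A ∈ ((MulAut.conj (e a b)).toMonoidHom.comp f).eqLocus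
        ((φ.comp (MulAut.conj (fp (F := F) h)).toMonoidHom).comp (levC h3)))
    refine Classical.Linear.eq_top_of_transvection_mem _ fun i j hij t => ?_
    rw [← T_eq hij]
    show e a b * f (T i j t) * (e a b)⁻¹ = φ (fp h * levC h3 (T i j t) * (fp h)⁻¹)
    have hcomm : flip n F a * flip n F b = flip n F b * flip n F a := flip_comm' a b
    by_cases hia : i = a <;> by_cases hja : j = a <;> by_cases hib : i = b <;> by_cases hjb : j = b
    all_goals (first
      | exact absurd (hia.trans hja.symm) hij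
      | exact absurd (hib.trans hjb.symm) hij
      | exact absurd (hia.symm.trans hib) h
      | exact absurd (hja.symm.trans hjb) h
      | skip)
    · subst hia; subst hjb
      rw [N.swp hij, hval (y := levC h3 (T j i (-t))) (flips_T hij t), hφ1]
    · subst hia
      rw [hval (y := levC2 h3 i (T i j t)) (flips_one hij h hjb t), hone hij h hjb h]
    · subst hja; subst hib
      rw [N.symm h, N.swp hij, hval (y := levC h3 (T j i (-t))) (by
        show flip n F j * flip n F i * lev n F (T i j t) * (flip n F j * flip n F i)⁻¹ = lev n F (T j i (-t))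
        rw [flip_comm' j i]; exact flips_T hij t), hφ1]
    · subst hja
      rw [hval (y := levC2 h3 j (T i j t)) (flips_one hij hib h t), hone hij hib h h]
    · subst hib
      rw [N.symm h, hval (y := levC2 h3 i (T i j t)) (by
        show flip n F a * flip n F i * lev n F (T i j t) * (flip n F a * flip n F i)⁻¹ = lev2 i (T i j t)
        rw [hcomm]; exact flips_one hij hia hja t), hone hij hia hja h.symm]
    · subst hjb
      rw [N.symm h, hval (y := levC2 h3 j (T i j t)) (by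
        show flip n F a * flip n F j * lev n F (T i j t) * (flip n F a * flip n F j)⁻¹ = lev2 j (T i j t)
        rw [hcomm]; exact flips_one hij hia hja t), hone hij hia hja h.symm]
    · rw [(N.fix h hij hia hib hja hjb t).eq, mul_inv_cancel_right,
        hval (y := levC h3 (T i j t)) (flips_fix hij hia hja hib hjb t), hφ1]
  have hperm : ∀ (g : alternatingGroup (Fin n)) {a b : Fin n} (h : a ≠ b),
      f (pm g) * φ (fp h) * (f (pm g))⁻¹ = φ (fp (g.1.injective.ne h)) := by
    intro g a b h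
    rw [← hφ1, ← map_inv, ← map_mul, ← map_mul]
    refine hval ?_
    show lev n F (pm g) * (flip n F a * flip n F b) * (lev n F (pm g))⁻¹ = flip n F (g.1 a) * flip n F (g.1 b)
    rw [← flip_perm g a, ← flip_perm g b]
    group
  let δ : ∀ {a b : Fin n}, a ≠ b → H := fun {a b} h => (φ (fp h))⁻¹ * e a b
  have hδ : ∀ {a b : Fin n} (h : a ≠ b) A, Commute (δ h) (f A) := by
    intro a b h A
    show _ * _ = _ * _
    have := hequiv h A
    rw [map_mul, map_mul, map_inv, hφ1, mul_inv_eq_iff_eq_mul] at this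
    show (φ (fp h))⁻¹ * e a b * f A = f A * ((φ (fp h))⁻¹ * e a b)
    rw [mul_assoc, this]; group
    rfl
  have hδe : ∀ {a b : Fin n} (h : a ≠ b), e a b = φ (fp h) * δ h := fun h => by simp [δ]
  have hδg : ∀ (g : alternatingGroup (Fin n)) {a b : Fin n} (h : a ≠ b), δ (g.1.injective.ne h) = δ h := by
    intro g a b h
    show (φ (fp _))⁻¹ * e (g.1 a) (g.1 b) = δ h
    rw [← hperm g h, ← N.conj g h]
    calc _ = f (pm g) * δ h * (f (pm g))⁻¹ := by simp only [δ]; group
      _ = δ h * f (pm g) * (f (pm g))⁻¹ := by rw [(hδ h (pm g)).eq]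
      _ = _ := mul_inv_cancel_right _ _
  have hsame : ∀ {a b a' b' : Fin n} (h : a ≠ b) (h' : a' ≠ b'), δ h' = δ h := by
    intro a b a' b' h h'
    obtain ⟨x, hx1, hx2⟩ := Classical.Linear.exists_third (n := Fin n) (by simp; omega) a b
    obtain ⟨x', hx1', hx2'⟩ := Classical.Linear.exists_third (n := Fin n) (by simp; omega) a' b'
    obtain ⟨w, w1, w2, w3⟩ := fresh4 h4 a b x
    obtain ⟨w', w1', w2', w3'⟩ := fresh4 h4 a' b' x'
    obtain ⟨g, g1, g2, -⟩ := Joint.exists_four' h hx1.symm hx2.symm w1.symm w2.symm w3.symm h' hx1'.symm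
      hx2'.symm w1'.symm w2'.symm w3'.symm
    subst g1 g2
    exact hδg g h
  refine ⟨φ, hφ1, fun {a b} h => ?_⟩
  obtain ⟨x, hx1, hx2⟩ := Classical.Linear.exists_third (n := Fin n) (by simp; omega) a b
  have hprod : φ (fp h) * φ (fp hx2.symm) = φ (fp hx1.symm) := by
    rw [← map_mul]
    refine hval ?_
    show flip n F a * flip n F b * (flip n F b * flip n F x) = flip n F a * flip n F x
    rw [mul_assoc, ← mul_assoc (flip n F b), flip_sq, one_mul]
  have h1 := N.tri h hx1.symm hx2.symm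
  rw [hδe h, hδe hx2.symm, hδe hx1.symm, hsame h hx2.symm, hsame h hx1.symm] at h1
  have h2 : φ (fp h) * δ h * φ (fp hx2.symm) = φ (fp h) * φ (fp hx2.symm) := by
    rw [hprod]
    exact mul_right_cancel (by rw [mul_assoc]; exact h1)
  rw [hδe h, mul_right_cancel h2]

end Cfsg.Agent.ShortPres.Plus
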