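import Cfsg.Agent.Lib.ShortPres.Plus.Starred
import Cfsg.Agent.Lib.ShortPres.Plus.Net
import Mathlib

/-!
From the relations on one change of two signs to the whole family.
-/

set_option autoImplicit false
set_option linter.unusedSectionVars false
set_option linter.unusedSimpArgs false

namespace Cfsg.Agent.ShortPres.Plus

open Equiv Matrix Cfsg.Agent.SimpleFacts.SLnRootLifts Cfsg.Agent.SimpleFacts.SLnCosets
  Cfsg.Agent.SimpleFacts.SLnSystem Cfsg.Agent.CurtisTitsD Cfsg.Agent.Classical.GL2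
  Cfsg.Agent.ShortPres.Joint
open Cfsg.Agent.ShortPres.Linear (pm pm_conj monomial_ext)
open scoped MatrixGroups

universe u v

variable {n : ℕ} {F : Type u} [Field F]

/-- One of the first four points. -/
def pt (h4 : 4 ≤ n) (k : Fin 4) : Fin n := ⟨k, by omega⟩

theorem pt_ne (h4 : 4 ≤ n) {k l : Fin 4} (h : k ≠ l) : pt h4 k ≠ pt h4 l := fun e =>
  h (Fin.ext (congrArg Fin.val e :))

/-- The first four points as an embedding. -/
def emb4 (h4 : 4 ≤ n) : Fin 4 ↪ Fin n := ⟨pt h4, fun _ _ h => Fin.ext (congrArg Fin.val h :)⟩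

/-- The double transposition inside each pair. -/
noncomputable def tt (h4 : 4 ≤ n) : alternatingGroup (Fin n) := Alt.altEmb (emb4 h4) T4

/-- The exchange of the two pairs. -/
noncomputable def gg (h4 : 4 ≤ n) : alternatingGroup (Fin n) := Alt.altEmb (emb4 h4) G4

theorem tt_apply (h4 : 4 ≤ n) (k : Fin 4) : (tt h4).1 (pt h4 k) = pt h4 (T4.1 k) :=
  Alt.altEmb_apply (emb4 h4) T4 k

theorem gg_apply (h4 : 4 ≤ n) (k : Fin 4) : (gg h4).1 (pt h4 k) = pt h4 (G4.1 k) :=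
  Alt.altEmb_apply (emb4 h4) G4 k

theorem tt_gg (h4 : 4 ≤ n) : tt h4 * gg h4 = gg h4 * tt h4 := by
  rw [tt, gg, ← map_mul, ← map_mul, rel4.2.2]

/-- A copy of `SL₂` on the first two coordinates. -/
structure Blk (h4 : 4 ≤ n) (b : SL(2, F) →* SpecialLinearGroup (Fin n) F) : Prop where
  uni : ∀ c, b (uniSL c) = T (pt h4 0) (pt h4 1) c
  low : ∀ c, b (lowSL c) = T (pt h4 1) (pt h4 0) c

/-- The negation in `SL₂` as a word. -/
theorem neg_word : (uniSL (-1) * lowSL 1 * uniSL (-1)) * (uniSL (-1) * lowSL 1 * uniSL (-1)) = (-1 : SL(2, F)) :=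
  mat_ext (by
    ext i j; fin_cases i <;> fin_cases j <;>
      simp [coe_uniSL, coe_lowSL, Matrix.mul_apply, Fin.sum_univ_two, Matrix.SpecialLinearGroup.coe_neg])

theorem st_word : (stEl : SL(2, F)) = uniSL 1 * lowSL (-1) * uniSL 1 :=
  mat_ext (by
    ext i j; fin_cases i <;> fin_cases j <;>
      simp [coe_uniSL, coe_lowSL, coe_stEl, Matrix.mul_apply, Fin.sum_univ_two])

theorem sw_ti (X : SL(2, F)) : sw (ti X) = ti (sw X) :=
  mat_ext (by ext i j; fin_cases i <;> fin_cases j <;> simp [coe_sw, coe_ti])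

theorem dsc_sw (X : SL(2, F)) : dsc (-1) (sw X) = ti X :=
  mat_ext (by ext i j; fin_cases i <;> fin_cases j <;> simp [coe_sw, coe_ti, coe_dsc, inv_neg])

theorem dsc_ti_sw (X : SL(2, F)) : dsc (-1) (ti (sw X)) = X :=
  mat_ext (by ext i j; fin_cases i <;> fin_cases j <;> simp [coe_sw, coe_ti, coe_dsc, inv_neg])

namespace Blk

variable [Finite F] {h4 : 4 ≤ n} {b : SL(2, F) →* SpecialLinearGroup (Fin n) F} (hb : Blk h4 b)
include hb

theorem conj (g : alternatingGroup (Fin n)) {x y : Fin n} (hx : g.1 (pt h4 0) = x) (hy : g.1 (pt h4 1) = y)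
    (c : F) : pm g * b (uniSL c) * (pm g)⁻¹ = T x y c ∧ pm g * b (lowSL c) * (pm g)⁻¹ = T y x c := by
  have d01 : pt h4 0 ≠ pt h4 1 := pt_ne h4 (by decide)
  rw [hb.uni, hb.low, pm_conj g d01, pm_conj g d01.symm, hx, hy]
  exact ⟨rfl, rfl⟩

theorem flip (g : alternatingGroup (Fin n)) (h0 : g.1 (pt h4 0) = pt h4 1) (h1 : g.1 (pt h4 1) = pt h4 0)
    (X : SL(2, F)) : pm g * b X * (pm g)⁻¹ = b (sw X) :=
  hom_ext2 (f := (MulAut.conj (pm g)).toMonoidHom.comp b) (g := b.comp sw)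
    (fun c => ((hb.conj g h0 h1 c).1).trans (by
      show _ = b (sw (uniSL c))
      rw [(sw_uni c).1, hb.low]))
    (fun c => ((hb.conj g h0 h1 c).2).trans (by
      show _ = b (sw (lowSL c))
      rw [(sw_uni c).2, hb.uni])) X

theorem neg_eq : b (-1) = wS (pt h4 0) (pt h4 1) (-1) * wS (pt h4 0) (pt h4 1) (-1) := by
  rw [← neg_word]
  simp [map_mul, hb.uni, hb.low, wS]

theorem neg_conj (g : alternatingGroup (Fin n)) {x y : Fin n} (hx : g.1 (pt h4 0) = x) (hy : g.1 (pt h4 1) = y) :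
    pm g * b (-1) * (pm g)⁻¹ = wS x y (-1) * wS x y (-1) := by
  rw [← neg_word]
  simp only [← MulAut.conj_apply, map_mul]
  simp only [MulAut.conj_apply, (hb.conj g hx hy _).1, (hb.conj g hx hy _).2, wS, inv_neg, inv_one, neg_neg]

theorem st_eq' : b stEl = wS (pt h4 0) (pt h4 1) 1 := by
  rw [st_word]
  simp [map_mul, hb.uni, hb.low, wS]

theorem st_conj : pm (gg h4) * b stEl * (pm (gg h4))⁻¹ = wS (pt h4 2) (pt h4 3) 1 := by
  rw [st_word]
  simp only [← MulAut.conj_apply, map_mul]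
  simp only [MulAut.conj_apply, (hb.conj (gg h4) (gg_apply h4 0) (gg_apply h4 1) _).1,
    (hb.conj (gg h4) (gg_apply h4 0) (gg_apply h4 1) _).2, wS, inv_one]
  rfl

/-- The permutation matrix of the double transposition as a product of Weyl words. -/
theorem tt_word : pm (tt h4) = b stEl * (pm (gg h4) * b stEl * (pm (gg h4))⁻¹) *
    (wS (pt h4 0) (pt h4 2) (-1 : F) * wS (pt h4 0) (pt h4 2) (-1)) := by
  rw [hb.st_conj, hb.st_eq']
  have d01 : pt h4 0 ≠ pt h4 1 := pt_ne h4 (by decide)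
  have d02 : pt h4 0 ≠ pt h4 2 := pt_ne h4 (by decide)
  have d03 : pt h4 0 ≠ pt h4 3 := pt_ne h4 (by decide)
  have d12 : pt h4 1 ≠ pt h4 2 := pt_ne h4 (by decide)
  have d13 : pt h4 1 ≠ pt h4 3 := pt_ne h4 (by decide)
  have d23 : pt h4 2 ≠ pt h4 3 := pt_ne h4 (by decide)
  have h1 := wS_monomial (F := F) d01 one_ne_zero
  have h2 := wS_monomial (F := F) d23 one_ne_zero
  have h3 := wS_monomial (F := F) d02 (neg_ne_zero.2 (one_ne_zero (α := F)))
  have h := SteinbergSL.Many.monomial_mul (SteinbergSL.Many.monomial_mul h1 h2)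
    (SteinbergSL.Many.monomial_mul h3 h3)
  have h' := permEl_monomial (F := F) (tt h4).1 (Perm.mem_alternatingGroup.1 (tt h4).2)
  have hπ : (tt h4).1 = swap (pt h4 0) (pt h4 1) * swap (pt h4 2) (pt h4 3) *
      (swap (pt h4 0) (pt h4 2) * swap (pt h4 0) (pt h4 2)) := by
    rw [Equiv.swap_mul_self, mul_one]
    refine Equiv.ext fun x => ?_
    by_cases hx : x ∈ Set.range (emb4 h4)
    · obtain ⟨k, rfl⟩ := hx
      show (tt h4).1 (pt h4 k) = _
      rw [tt_apply, Perm.mul_apply]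
      show emb4 h4 (T4.1 k) = swap (emb4 h4 0) (emb4 h4 1) (swap (emb4 h4 2) (emb4 h4 3) (emb4 h4 k))
      rw [(emb4 h4).swap_apply, (emb4 h4).swap_apply]
      rfl
    · have hn : ∀ k, x ≠ pt h4 k := fun k e => hx ⟨k, e.symm⟩
      rw [tt, Alt.altEmb_fix _ _ hx, Perm.mul_apply, swap_apply_of_ne_of_ne (hn 2) (hn 3),
        swap_apply_of_ne_of_ne (hn 0) (hn 1)]
  rw [← hπ] at h
  refine Linear.monomial_ext h' h fun w => ?_
  simp only [Perm.mul_apply, swap_apply_def]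
  split_ifs <;> first | grind | simp_all

/-- An element acting as a change of one sign. -/
theorem sign_act (X : SL(2, F)) :
    (wS (pt h4 1) (pt h4 2) (-1) * wS (pt h4 1) (pt h4 2) (-1)) * b X *
      (wS (pt h4 1) (pt h4 2) (-1) * wS (pt h4 1) (pt h4 2) (-1))⁻¹ = b (dsc (-1) X) := by
  have d01 : pt h4 0 ≠ pt h4 1 := pt_ne h4 (by decide)
  have d02 : pt h4 0 ≠ pt h4 2 := pt_ne h4 (by decide)
  have d12 : pt h4 1 ≠ pt h4 2 := pt_ne h4 (by decide)
  have h3 := wS_monomial (F := F) d12 (neg_ne_zero.2 (one_ne_zero (α := F)))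
  have h := SteinbergSL.Many.monomial_mul h3 h3
  refine hom_ext2 (f := (MulAut.conj _).toMonoidHom.comp b) (g := b.comp (dsc (-1))) (fun c => ?_) (fun c => ?_) X
  · show _ * b (uniSL c) * _ = b (dsc (-1) (uniSL c))
    rw [show dsc (-1 : Fˣ) (uniSL c) = uniSL (-c) from
      mat_ext (by ext i j; fin_cases i <;> fin_cases j <;> simp [coe_dsc, coe_uniSL]), hb.uni, hb.uni, h.conj d01]
    simp [swap_apply_def, d01, d01.symm, d02, d02.symm, d12, d12.symm]
  · show _ * b (lowSL c) * _ = b (dsc (-1) (lowSL c))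
    rw [show dsc (-1 : Fˣ) (lowSL c) = lowSL (-c) from
      mat_ext (by ext i j; fin_cases i <;> fin_cases j <;> simp [coe_dsc, coe_lowSL, inv_neg]), hb.low, hb.low,
      h.conj d01.symm]
    simp [swap_apply_def, d01, d01.symm, d02, d02.symm, d12, d12.symm]

end Blk

variable [Fintype F] {H : Type v} [Group H]

/-- The relations on the change of the first two signs. -/
structure Rl (h4 : 4 ≤ n) (b : SL(2, F) →* SpecialLinearGroup (Fin n) F)
    (f : SpecialLinearGroup (Fin n) F →* H) (s : H) (v u : SL(2, F)) (g13 : alternatingGroup (Fin n)) : Prop where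
  stab : ∀ g : alternatingGroup (Fin n), Ord (pt h4 0) (pt h4 1) (g.1 (pt h4 0)) (g.1 (pt h4 1)) →
    Commute s (f (pm g))
  tri : s * (f (pm (c3 h4)) * s * (f (pm (c3 h4)))⁻¹) =
    f (pm (c3 h4 * c3 h4)) * s * (f (pm (c3 h4 * c3 h4)))⁻¹
  fix23 : Commute s (f (pm (gg h4)) * f (b v) * (f (pm (gg h4)))⁻¹)
  act : s * f (b v) * s⁻¹ = f (b (ti v))
  mid : Commute (f (b u))
    ((f (pm (c3 h4)) * s * (f (pm (c3 h4)))⁻¹) * f (b u) * (f (pm (c3 h4)) * s * (f (pm (c3 h4)))⁻¹)⁻¹)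
  sq : n = 4 → s * s = 1
  four : n = 4 → ∀ X, (X = v ∨ X = sw v) → Commute (f (b X))
    ((f (pm g13) * s * (f (pm g13))⁻¹) * (f (pm (gg h4)) * f (b v) * (f (pm (gg h4)))⁻¹) *
      (f (pm g13) * s * (f (pm g13))⁻¹)⁻¹)

set_option maxHeartbeats 1600000 in
/-- The family of sign changes. -/
theorem Rl.exists_net {h4 : 4 ≤ n} {b : SL(2, F) →* SpecialLinearGroup (Fin n) F} (hb : Blk h4 b)
    {f : SpecialLinearGroup (Fin n) F →* H} {s : H} {v u : SL(2, F)} {g13 : alternatingGroup (Fin n)}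
    (hg0 : g13.1 (pt h4 0) = pt h4 1) (hg1 : g13.1 (pt h4 1) = pt h4 3)
    (hv : Subgroup.closure ({v, sw v} : Set SL(2, F)) = ⊤) (hu : Subgroup.closure ({u, ti u} : Set SL(2, F)) = ⊤)
    (R : Rl h4 b f s v u g13) : ∃ e : Fin n → Fin n → H, Net f e ∧ e (pt h4 0) (pt h4 1) = s := by
  classical
  let α : alternatingGroup (Fin n) →* H := f.comp pm
  let L : SL(2, F) →* H := f.comp b
  set q := pt h4 with hq
  have d : ∀ {k l : Fin 4}, k ≠ l → q k ≠ q l := fun h => pt_ne h4 h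
  have cc0 : (c3 h4).1 (q 0) = q 1 := by
    show (swap (q 0) (q 1) * swap (q 1) (q 2)) (q 0) = q 1
    simp [swap_apply_def, d (show (0 : Fin 4) ≠ 1 by decide), d (show (0 : Fin 4) ≠ 2 by decide)]
  have cc1 : (c3 h4).1 (q 1) = q 2 := by
    show (swap (q 0) (q 1) * swap (q 1) (q 2)) (q 1) = q 2
    simp [swap_apply_def, d (show (2 : Fin 4) ≠ 0 by decide), d (show (2 : Fin 4) ≠ 1 by decide)]
  have cc2 : (c3 h4).1 (q 2) = q 0 := by
    show (swap (q 0) (q 1) * swap (q 1) (q 2)) (q 2) = q 0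
    simp [swap_apply_def, d (show (1 : Fin 4) ≠ 0 by decide), d (show (2 : Fin 4) ≠ 1 by decide)]
  have hfour : ∀ {i j k l : Fin n}, i ≠ j → i ≠ k → i ≠ l → j ≠ k → j ≠ l → k ≠ l →
      ∃ g : alternatingGroup (Fin n), g.1 (q 0) = i ∧ g.1 (q 1) = j ∧
        ((g.1 (q 2) = k ∧ g.1 (q 3) = l) ∨ (g.1 (q 2) = l ∧ g.1 (q 3) = k)) := fun hij hik hil hjk hjl hkl =>
    exists_four' (d (by decide)) (d (by decide)) (d (by decide)) (d (by decide)) (d (by decide)) (d (by decide))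
      hij hik hjk hil hjl hkl
  have hfour' : ∀ {i j k l : Fin n}, i ≠ j → i ≠ k → i ≠ l → j ≠ k → j ≠ l → k ≠ l →
      ∃ g : alternatingGroup (Fin n), g.1 (q 2) = k ∧ g.1 (q 3) = l ∧
        ((g.1 (q 0) = i ∧ g.1 (q 1) = j) ∨ (g.1 (q 0) = j ∧ g.1 (q 1) = i)) := fun hij hik hil hjk hjl hkl =>
    exists_four' (d (by decide)) (d (by decide)) (d (by decide)) (d (by decide)) (d (by decide)) (d (by decide))
      hkl hik.symm hil.symm hjk.symm hjl.symm hij
  have hex : ∀ i j : Fin n, i ≠ j → ∃ g : alternatingGroup (Fin n), g.1 (q 0) = i ∧ g.1 (q 1) = j := by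
    intro i j hij
    obtain ⟨k, hki, hkj, -⟩ := fresh4 h4 i j i
    obtain ⟨l, hli, hlj, hlk⟩ := fresh4 h4 i j k
    obtain ⟨g, h1, h2, -⟩ := hfour hij hki.symm hli.symm hkj.symm hlj.symm hlk.symm
    exact ⟨g, h1, h2⟩
  let e : Fin n → Fin n → H := fun i j =>
    if h : i ≠ j then α (hex i j h).choose * s * (α (hex i j h).choose)⁻¹ else 1
  have he : ∀ (g : alternatingGroup (Fin n)) {x y}, g.1 (q 0) = x → g.1 (q 1) = y → e x y = α g * s * (α g)⁻¹ := by
    intro g x y hx hy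
    have hne : x ≠ y := hx ▸ hy ▸ g.1.injective.ne (d (by decide))
    simp only [e, dif_pos hne]
    obtain ⟨q0, q1⟩ := (hex _ _ hne).choose_spec
    set k := (hex _ _ hne).choose
    have hf' : ∀ z, k.1 z = g.1 z → (g⁻¹ * k : alternatingGroup (Fin n)).1 z = z := fun z hz => by
      show g.1⁻¹ (k.1 z) = z
      rw [hz]; exact g.1.symm_apply_apply z
    have h : Commute s (α (g⁻¹ * k)) :=
      R.stab _ (Or.inl ⟨hf' _ (q0.trans hx.symm), hf' _ (q1.trans hy.symm)⟩)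
    rw [show α k = α g * α (g⁻¹ * k) by rw [← map_mul, mul_inv_cancel_left]]
    calc α g * α (g⁻¹ * k) * s * (α g * α (g⁻¹ * k))⁻¹
        = α g * (α (g⁻¹ * k) * s) * (α (g⁻¹ * k))⁻¹ * (α g)⁻¹ := by group
      _ = _ := by rw [← h.eq]; group
  have e01 : e (q 0) (q 1) = s := by simpa using he 1 rfl rfl
  have conj : ∀ (g : alternatingGroup (Fin n)) {i j}, i ≠ j → α g * e i j * (α g)⁻¹ = e (g.1 i) (g.1 j) := by
    intro g i j hij
    obtain ⟨k, k0, k1⟩ := hex i j hij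
    rw [he k k0 k1, he (g * k) (x := g.1 i) (y := g.1 j) (by rw [← k0]; rfl) (by rw [← k1]; rfl), map_mul]
    group
  have symm : ∀ {i j}, i ≠ j → e i j = e j i := by
    intro i j hij
    obtain ⟨k, k0, k1⟩ := hex i j hij
    have hk0 : (k * tt h4).1 (q 0) = j := by show k.1 ((tt h4).1 (q 0)) = j; rw [hq, tt_apply]; exact k1
    have hk1 : (k * tt h4).1 (q 1) = i := by show k.1 ((tt h4).1 (q 1)) = i; rw [hq, tt_apply]; exact k0
    have ht : Commute s (α (tt h4)) := R.stab _ (Or.inr ⟨tt_apply h4 0, tt_apply h4 1⟩)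
    rw [he k k0 k1, he (k * tt h4) hk0 hk1, map_mul]
    calc _ = α k * (s * α (tt h4)) * (α (tt h4))⁻¹ * (α k)⁻¹ := by group
      _ = _ := by rw [ht.eq]; group
  have tri0 : e (q 0) (q 1) * e (q 1) (q 2) = e (q 0) (q 2) := by
    rw [symm (d (show (0 : Fin 4) ≠ 2 by decide)), e01, he (c3 h4) cc0 cc1,
      he (c3 h4 * c3 h4) (x := q 2) (y := q 0) (by show (c3 h4).1 ((c3 h4).1 (q 0)) = q 2; rw [cc0, cc1])
        (by show (c3 h4).1 ((c3 h4).1 (q 1)) = q 0; rw [cc1, cc2])]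
    exact R.tri
  have htri : ∀ g : alternatingGroup (Fin n),
      e (g.1 (q 0)) (g.1 (q 1)) * e (g.1 (q 1)) (g.1 (q 2)) = e (g.1 (q 0)) (g.1 (q 2)) := fun g => by
    rw [← conj g (d (by decide)), ← conj g (d (by decide)), ← conj g (d (by decide)), ← tri0]
    group
  have sq : ∀ {i j}, i ≠ j → e i j * e i j = 1 := by
    intro i j hij
    by_cases h5 : n = 4
    · obtain ⟨k, k0, k1⟩ := hex i j hij
      rw [he k k0 k1, show α k * s * (α k)⁻¹ * (α k * s * (α k)⁻¹) = α k * (s * s) * (α k)⁻¹ by group, R.sq h5]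
      group
    · obtain ⟨k, hki, hkj, -⟩ := fresh4 h4 i j i
      have hc5 : 5 ≤ Fintype.card (Fin n) := by simp; omega
      obtain ⟨g, g0, g1, g2⟩ := Linear.exists_three hc5 (d (show (0 : Fin 4) ≠ 1 by decide))
        (d (show (0 : Fin 4) ≠ 2 by decide)) (d (show (1 : Fin 4) ≠ 2 by decide)) hij hki.symm hkj.symm
      obtain ⟨g', g0', g1', g2'⟩ := Linear.exists_three hc5 (d (show (0 : Fin 4) ≠ 1 by decide))
        (d (show (0 : Fin 4) ≠ 2 by decide)) (d (show (1 : Fin 4) ≠ 2 by decide)) hij.symm hkj.symm hki.symm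
      have t1 := htri g
      have t2 := htri g'
      rw [g0, g1, g2] at t1
      rw [g0', g1', g2', ← symm hij] at t2
      rw [← t1, ← mul_assoc] at t2
      exact mul_right_cancel (t2.trans (one_mul _).symm)
  have tri : ∀ {i j k}, i ≠ j → i ≠ k → j ≠ k → e i j * e j k = e i k := by
    intro i j k hij hik hjk
    obtain ⟨g, g2, ⟨g0, g1⟩ | ⟨g0, g1⟩⟩ := exists_three' (d (show (0 : Fin 4) ≠ 1 by decide))
      (d (show (0 : Fin 4) ≠ 2 by decide)) (d (show (1 : Fin 4) ≠ 2 by decide)) hij hik hjk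
    · have := htri g
      rwa [g0, g1, g2] at this
    · have := htri g
      rw [g0, g1, g2, ← symm hij] at this
      rw [← this, ← mul_assoc, sq hij, one_mul]
  have einv : ∀ {i j}, i ≠ j → (e i j)⁻¹ = e i j := fun h => inv_eq_of_mul_eq_one_right (sq h)
  have ecomm : ∀ {i j k}, i ≠ j → i ≠ k → j ≠ k → e j k * e i j = e i j * e j k := by
    intro i j k hij hik hjk
    rw [tri hij hik hjk, symm hjk, symm hij, tri hjk.symm hik.symm hij.symm, symm hik.symm]
  -- the first block and its complement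
  have hLT : ∀ (g : alternatingGroup (Fin n)) {x y}, g.1 (q 0) = x → g.1 (q 1) = y → ∀ c,
      α g * L (uniSL c) * (α g)⁻¹ = f (T x y c) ∧ α g * L (lowSL c) * (α g)⁻¹ = f (T y x c) :=
    fun g x y hx hy c => by
      simp only [α, L, MonoidHom.comp_apply, ← map_inv f, ← map_mul f]
      rw [(hb.conj g hx hy c).1, (hb.conj g hx hy c).2]
      exact ⟨rfl, rfl⟩
  have hflip : ∀ X, α (tt h4) * L X * (α (tt h4))⁻¹ = L (sw X) := fun X => by
    simp only [α, L, MonoidHom.comp_apply, ← map_inv f, ← map_mul f]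
    rw [hb.flip _ (tt_apply h4 0) (tt_apply h4 1)]
  have hts : Commute s (α (tt h4)) := R.stab _ (Or.inr ⟨tt_apply h4 0, tt_apply h4 1⟩)
  let L' : SL(2, F) →* H := (MulAut.conj (α (gg h4))).toMonoidHom.comp L
  have hL' : ∀ X, L' X = α (gg h4) * L X * (α (gg h4))⁻¹ := fun X => rfl
  have hflip' : ∀ X, α (tt h4) * L' X * (α (tt h4))⁻¹ = L' (sw X) := fun X => by
    rw [hL', hL', ← hflip, show α (tt h4) * (α (gg h4) * L X * (α (gg h4))⁻¹) * (α (tt h4))⁻¹ =
      α (tt h4 * gg h4) * L X * (α (tt h4 * gg h4))⁻¹ by rw [map_mul]; group, tt_gg, map_mul]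
    group
  have hfix : ∀ X, Commute s (L' X) := by
    intro X
    have : Subgroup.closure ({v, sw v} : Set SL(2, F)) ≤ (Subgroup.centralizer ({s} : Set H)).comap L' := by
      rw [Subgroup.closure_le]
      rintro _ (rfl | rfl)
      · exact Subgroup.mem_centralizer_singleton_iff.2 R.fix23.symm.eq
      · refine Subgroup.mem_centralizer_singleton_iff.2 (Commute.symm ?_).eq
        rw [← hflip']
        exact (hts.mul_right R.fix23).mul_right hts.inv_right
    exact (show Commute (L' X) s from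
      Subgroup.mem_centralizer_singleton_iff.1 (this (hv ▸ Subgroup.mem_top X))).symm
  have fix : ∀ {i j k l}, i ≠ j → k ≠ l → k ≠ i → k ≠ j → l ≠ i → l ≠ j → ∀ t,
      Commute (e i j) (f (T k l t)) := by
    intro i j k l hij hkl hki hkj hli hlj t
    obtain ⟨g, g2, g3, h⟩ := hfour' hij hki.symm hli.symm hkj.symm hlj.symm hkl
    have eT : f (T k l t) = α g * L' (uniSL t) * (α g)⁻¹ := by
      rw [hL', ← (hLT (g * gg h4) (x := k) (y := l) (by show g.1 ((gg h4).1 (q 0)) = k; rw [hq, gg_apply]; exact g2)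
        (by show g.1 ((gg h4).1 (q 1)) = l; rw [hq, gg_apply]; exact g3) t).1, map_mul]
      group
    have eE : e i j = α g * s * (α g)⁻¹ := by
      rcases h with ⟨g0, g1⟩ | ⟨g0, g1⟩
      · exact he g g0 g1
      · rw [symm hij]; exact he g g0 g1
    rw [eT, eE, Commute.conj_iff]
    exact hfix _
  have hact : ∀ X, s * L X * s⁻¹ = L (ti X) := by
    intro X
    suffices h : ((MulAut.conj s).toMonoidHom.comp L).eqLocus (L.comp ti) = ⊤ from
      (h ▸ Subgroup.mem_top X : X ∈ ((MulAut.conj s).toMonoidHom.comp L).eqLocus (L.comp ti))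
    rw [eq_top_iff, ← hv, Subgroup.closure_le]
    rintro _ (rfl | rfl)
    · exact R.act
    · show s * L (sw v) * s⁻¹ = L (ti (sw v))
      rw [← hflip, ← sw_ti, ← hflip, show L (ti v) = s * L v * s⁻¹ from R.act.symm]
      calc s * (α (tt h4) * L v * (α (tt h4))⁻¹) * s⁻¹
          = (s * α (tt h4)) * L v * (s * α (tt h4))⁻¹ := by group
        _ = _ := by rw [hts.eq]; group
  have swp : ∀ {i j}, i ≠ j → ∀ t, e i j * f (T i j t) * (e i j)⁻¹ = f (T j i (-t)) := by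
    intro i j hij t
    obtain ⟨g, g0, g1⟩ := hex i j hij
    rw [he g g0 g1, ← (hLT g g0 g1 t).1, ← (hLT g g0 g1 (-t)).2, ← (ti_uni t).1, ← hact]
    group
  -- the negations
  have hneg01 : Commute s (L (-1)) := mul_inv_eq_iff_eq_mul.1 ((hact (-1)).trans (by rw [ti_neg]))
  have hWg : ∀ (g : alternatingGroup (Fin n)) {x y}, g.1 (q 0) = x → g.1 (q 1) = y →
      α g * L (-1) * (α g)⁻¹ = f (wS x y (-1) * wS x y (-1)) := fun g x y hx hy => by
    simp only [α, L, MonoidHom.comp_apply, ← map_inv f, ← map_mul f]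
    rw [hb.neg_conj g hx hy]
  have hD02 : Commute s (f (wS (q 0) (q 2) (-1) * wS (q 0) (q 2) (-1))) := by
    have hst : Commute s (L stEl) := mul_inv_eq_iff_eq_mul.1 ((hact stEl).trans (by rw [ti_st]))
    have hw := congrArg f hb.tt_word
    rw [map_mul, map_mul] at hw
    have h2 : f (pm (gg h4) * b stEl * (pm (gg h4))⁻¹) = L' stEl := by
      rw [hL']; simp only [α, L, MonoidHom.comp_apply, map_mul, map_inv]
    rw [h2] at hw
    rw [show f (wS (q 0) (q 2) (-1) * wS (q 0) (q 2) (-1)) = (L stEl * L' stEl)⁻¹ * α (tt h4) by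
      rw [show α (tt h4) = f (pm (tt h4)) from rfl, hw, hq, show L stEl = f (b stEl) from rfl,
        inv_mul_cancel_left]]
    exact ((hst.mul_right (hfix stEl)).inv_right).mul_right hts
  have cen : ∀ {i j k}, i ≠ j → i ≠ k → j ≠ k → Commute (e j k) (f (wS i j (-1) * wS i j (-1))) := by
    -- from the pair meeting the word in one index
    obtain ⟨h, h0, h1⟩ := hex (q 0) (q 2) (d (by decide))
    set k1 := h.1⁻¹ (q 1) with hk1
    have hk : h.1 k1 = q 1 := h.1.apply_symm_apply _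
    have k10 : k1 ≠ q 0 := fun e' => d (show (0 : Fin 4) ≠ 1 by decide)
      (h0.symm.trans ((congrArg h.1 e').symm.trans hk))
    have k11 : k1 ≠ q 1 := fun e' => d (show (2 : Fin 4) ≠ 1 by decide)
      (h1.symm.trans ((congrArg h.1 e').symm.trans hk))
    have hbase : Commute (e (q 0) k1) (L (-1)) := by
      refine (Commute.conj_iff (α h)).1 ?_
      rw [conj h k10.symm, h0, hk, e01, hWg h h0 h1]
      exact hD02
    have hrest : ∀ k', k' ≠ q 0 → k' ≠ q 1 → Commute (e (q 1) k') (L (-1)) := by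
      have hrest0 : Commute (e (q 1) k1) (L (-1)) := by
        rw [← tri (d (show (1 : Fin 4) ≠ 0 by decide)) k11.symm k10.symm, ← symm (d (by decide)), e01]
        exact hneg01.mul_left hbase
      intro k' h0' h1'
      by_cases he' : k1 = k'
      · exact he' ▸ hrest0
      rw [← tri k11.symm h1'.symm he']
      refine hrest0.mul_left ?_
      rw [show L (-1) = f (wS (q 0) (q 1) (-1) * wS (q 0) (q 1) (-1)) by
        have := hWg 1 rfl rfl; simpa using this]
      have d01 := d (show (0 : Fin 4) ≠ 1 by decide)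
      have c1 := fun t => fix he' d01 k10.symm h0'.symm k11.symm h1'.symm t
      have c2 := fun t => fix he' d01.symm k11.symm h1'.symm k10.symm h0'.symm t
      simp only [wS, map_mul]
      exact (((c1 _).mul_right (c2 _)).mul_right (c1 _)).mul_right (((c1 _).mul_right (c2 _)).mul_right (c1 _))
    intro i j k hij hik hjk
    obtain ⟨g, g0, g1⟩ := hex i j hij
    have hgk : g.1 (g.1⁻¹ k) = k := g.1.apply_symm_apply k
    have n0 : g.1⁻¹ k ≠ q 0 := fun e' => hik (by rw [← g0, ← e', hgk])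
    have n1 : g.1⁻¹ k ≠ q 1 := fun e' => hjk (by rw [← g1, ← e', hgk])
    rw [show e j k = α g * e (q 1) (g.1⁻¹ k) * (α g)⁻¹ by rw [conj g n1.symm, g1, hgk], ← hWg g g0 g1,
      Commute.conj_iff]
    exact hrest _ n0 n1
  -- the two blocks meeting in two indices
  have d12 : q 1 ≠ q 2 := d (by decide)
  have e12 : e (q 1) (q 2) = α (c3 h4) * s * (α (c3 h4))⁻¹ := he _ cc0 cc1
  let M : SL(2, F) →* H := (MulAut.conj (e (q 1) (q 2))).toMonoidHom.comp L
  have hM : ∀ X, M X = e (q 1) (q 2) * L X * (e (q 1) (q 2))⁻¹ := fun X => rfl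
  have hR : Commute (L u) (M u) := by
    rw [hM, e12]; exact R.mid
  have m01 : ∀ {X Y}, Commute (L X) (M Y) → Commute (L (ti X)) (M (ti Y)) := fun {X Y} h => by
    have h' := h.map (MulAut.conj s).toMonoidHom
    simp only [MulEquiv.coe_toMonoidHom, MulAut.conj_apply] at h'
    rw [hact] at h'
    rw [hM, ← hact Y]
    have hc := ecomm (d (show (0 : Fin 4) ≠ 1 by decide)) (d (show (0 : Fin 4) ≠ 2 by decide)) d12
    rw [e01] at hc
    rwa [show e (q 1) (q 2) * (s * L Y * s⁻¹) * (e (q 1) (q 2))⁻¹ =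
      (e (q 1) (q 2) * s) * L Y * (e (q 1) (q 2) * s)⁻¹ by group, hc,
      show s * e (q 1) (q 2) * L Y * (s * e (q 1) (q 2))⁻¹ = s * M Y * s⁻¹ by rw [hM]; group]
  have m00 : ∀ X, Commute (e (q 2) (q 3)) (L X) := fun X => by
    have h := hfix X
    rw [hL', show α (gg h4) * L X * (α (gg h4))⁻¹ = α (gg h4) * L X * (α (gg h4))⁻¹ from rfl] at h
    have h' := h.map (MulAut.conj (α (gg h4))⁻¹).toMonoidHom
    simp only [MulEquiv.coe_toMonoidHom, MulAut.conj_apply, inv_inv] at h'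
    rw [show (α (gg h4))⁻¹ * (α (gg h4) * L X * (α (gg h4))⁻¹) * α (gg h4) = L X by group] at h'
    rw [show e (q 2) (q 3) = (α (gg h4))⁻¹ * s * α (gg h4) by
      rw [← e01, ← map_inv, show α (gg h4) = (α (gg h4)⁻¹)⁻¹ by rw [map_inv, inv_inv],
        conj _ (d (by decide))]
      congr 1
      exacts [((Equiv.symm_apply_eq _).2 (gg_apply h4 2).symm).symm, ((Equiv.symm_apply_eq _).2 (gg_apply h4 3).symm).symm]]
    exact h'
  have mtt : ∀ {X Y}, Commute (L X) (M Y) → Commute (L (sw X)) (M (ti (sw Y))) := fun {X Y} h => by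
    have h' := h.map (MulAut.conj (α (tt h4))).toMonoidHom
    simp only [MulEquiv.coe_toMonoidHom, MulAut.conj_apply] at h'
    rw [hflip] at h'
    have e03 : α (tt h4) * e (q 1) (q 2) * (α (tt h4))⁻¹ = e (q 1) (q 2) * (s * e (q 2) (q 3)) := by
      rw [conj _ d12, hq, tt_apply, tt_apply]
      show e (q 0) (q 3) = _
      have d01 := d (show (0 : Fin 4) ≠ 1 by decide)
      have d02 := d (show (0 : Fin 4) ≠ 2 by decide)
      rw [← mul_assoc, ← e01, ecomm d01 d02 d12, tri d01 d02 d12,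
        tri d02 (d (show (0 : Fin 4) ≠ 3 by decide)) (d (show (2 : Fin 4) ≠ 3 by decide))]
    rw [hM, show α (tt h4) * (e (q 1) (q 2) * L Y * (e (q 1) (q 2))⁻¹) * (α (tt h4))⁻¹ =
      (α (tt h4) * e (q 1) (q 2) * (α (tt h4))⁻¹) * (α (tt h4) * L Y * (α (tt h4))⁻¹) *
        (α (tt h4) * e (q 1) (q 2) * (α (tt h4))⁻¹)⁻¹ by group, e03, hflip] at h'
    rw [hM, ← hact]
    have hc := (m00 (sw Y)).eq
    rwa [show e (q 1) (q 2) * (s * L (sw Y) * s⁻¹) * (e (q 1) (q 2))⁻¹ =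
      e (q 1) (q 2) * (s * e (q 2) (q 3)) * L (sw Y) * (e (q 1) (q 2) * (s * e (q 2) (q 3)))⁻¹ by
        calc _ = e (q 1) (q 2) * s * (L (sw Y) * e (q 2) (q 3)) * (e (q 2) (q 3))⁻¹ * s⁻¹ *
              (e (q 1) (q 2))⁻¹ := by group
          _ = _ := by rw [← hc]; group]
  have mD : ∀ {X Y}, Commute (L X) (M Y) → Commute (L (dsc (-1) X)) (M (dsc (-1) Y)) := fun {X Y} h => by
    set D := f (wS (q 1) (q 2) (-1) * wS (q 1) (q 2) (-1)) with hD
    have hDL : ∀ Z, D * L Z * D⁻¹ = L (dsc (-1) Z) := fun Z => by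
      simp only [hD, L, MonoidHom.comp_apply, ← map_inv f, ← map_mul f]
      rw [hq, hb.sign_act]
    have hDe : Commute D (e (q 1) (q 2)) := by
      rw [e12, hD, ← hWg (c3 h4) cc0 cc1, Commute.conj_iff]
      exact hneg01.symm
    have h' := h.map (MulAut.conj D).toMonoidHom
    simp only [MulEquiv.coe_toMonoidHom, MulAut.conj_apply] at h'
    rw [hDL] at h'
    rw [hM, ← hDL Y]
    rwa [show e (q 1) (q 2) * (D * L Y * D⁻¹) * (e (q 1) (q 2))⁻¹ =
      (e (q 1) (q 2) * D) * L Y * (e (q 1) (q 2) * D)⁻¹ by group, ← hDe.eq,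
      show D * e (q 1) (q 2) * L Y * (D * e (q 1) (q 2))⁻¹ = D * M Y * D⁻¹ by rw [hM]; group]
  have hmidall : ∀ X Y, Commute (L X) (M Y) := by
    have hall : ∀ Y, Commute (L u) (M Y) → Commute (L (ti u)) (M Y) → ∀ X, Commute (L X) (M Y) := fun Y a a' X => by
      have : Subgroup.closure ({u, ti u} : Set SL(2, F)) ≤ (Subgroup.centralizer ({M Y} : Set H)).comap L := by
        rw [Subgroup.closure_le]
        rintro _ (rfl | rfl)
        · exact Subgroup.mem_centralizer_singleton_iff.2 a.eq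
        · exact Subgroup.mem_centralizer_singleton_iff.2 a'.eq
      exact Subgroup.mem_centralizer_singleton_iff.1 (this (hu ▸ Subgroup.mem_top X))
    have hsw := mD (mtt hR)
    rw [dsc_sw, dsc_ti_sw] at hsw
    have h1 := hall u hR hsw
    have h2 : ∀ X, Commute (L X) (M (ti u)) := fun X => by
      simpa [ti_ti] using m01 (h1 (ti X))
    refine commute_closure hu L M ?_
    rintro x - _ (rfl | rfl)
    · exact h1 x
    · exact h2 x
  have mid : ∀ {c i k}, c ≠ i → c ≠ k → i ≠ k → ∀ {x y x' y'}, Ord c i x y → Ord c i x' y' → ∀ t t',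
      Commute (f (T x y t)) (e i k * f (T x' y' t') * (e i k)⁻¹) := by
    intro c i k hci hck hik x y x' y' hxy hxy' t t'
    obtain ⟨g, g0, g1⟩ := hex c i hci
    have pick : ∀ {x y}, Ord c i x y → ∀ t, ∃ X, α g * L X * (α g)⁻¹ = f (T x y t) := fun h t => by
      rcases h with ⟨rfl, rfl⟩ | ⟨rfl, rfl⟩
      exacts [⟨_, (hLT g g0 g1 t).1⟩, ⟨_, (hLT g g0 g1 t).2⟩]
    obtain ⟨X, hX⟩ := pick hxy t
    obtain ⟨Y, hY⟩ := pick hxy' t'
    rw [← hX, ← hY]
    have hgk : g.1 (g.1⁻¹ k) = k := g.1.apply_symm_apply k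
    have n0 : g.1⁻¹ k ≠ q 0 := fun e' => hck (by rw [← g0, ← e', hgk])
    have n1 : g.1⁻¹ k ≠ q 1 := fun e' => hik (by rw [← g1, ← e', hgk])
    rw [show e i k = α g * e (q 1) (g.1⁻¹ k) * (α g)⁻¹ by rw [conj g n1.symm, g1, hgk],
      show α g * e (q 1) (g.1⁻¹ k) * (α g)⁻¹ * (α g * L Y * (α g)⁻¹) * (α g * e (q 1) (g.1⁻¹ k) * (α g)⁻¹)⁻¹ =
        α g * (e (q 1) (g.1⁻¹ k) * L Y * (e (q 1) (g.1⁻¹ k))⁻¹) * (α g)⁻¹ by group, Commute.conj_iff]
    by_cases h2 : q 2 = g.1⁻¹ k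
    · rw [← h2]; exact hmidall X Y
    have hfixL : Commute (e (q 2) (g.1⁻¹ k)) (L Y) := by
      suffices hh : ((MulAut.conj (e (q 2) (g.1⁻¹ k))).toMonoidHom.comp L).eqLocus L = ⊤ from
        mul_inv_eq_iff_eq_mul.1 (hh ▸ Subgroup.mem_top Y :
          Y ∈ ((MulAut.conj (e (q 2) (g.1⁻¹ k))).toMonoidHom.comp L).eqLocus L)
      rw [eq_top_iff, ← closure_roots, Subgroup.closure_le]
      rintro _ (⟨a, rfl⟩ | ⟨a, rfl⟩)
      · refine mul_inv_eq_iff_eq_mul.2 ?_
        have := fix h2 (d (show (0 : Fin 4) ≠ 1 by decide)) (d (by decide)) n0.symm (d (by decide)) n1.symm a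
        rw [← hb.uni] at this
        exact this
      · refine mul_inv_eq_iff_eq_mul.2 ?_
        have := fix h2 (d (show (1 : Fin 4) ≠ 0 by decide)) (d (by decide)) n1.symm (d (by decide)) n0.symm a
        rw [← hb.low] at this
        exact this
    rw [← tri d12 n1.symm h2, show e (q 1) (q 2) * e (q 2) (g.1⁻¹ k) * L Y * (e (q 1) (q 2) * e (q 2) (g.1⁻¹ k))⁻¹ =
      e (q 1) (q 2) * (e (q 2) (g.1⁻¹ k) * L Y) * (e (q 2) (g.1⁻¹ k))⁻¹ * (e (q 1) (q 2))⁻¹ by group, hfixL.eq,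
      ← mul_assoc, mul_inv_cancel_right]
    exact hmidall X Y
  have four : n = 4 → ∀ {i j k l}, i ≠ j → i ≠ k → i ≠ l → j ≠ k → j ≠ l → k ≠ l → ∀ {x y x' y'},
      Ord i j x y → Ord k l x' y' → ∀ t t', Commute (f (T x y t)) (e j l * f (T x' y' t') * (e j l)⁻¹) := by
    intro hn
    have d01 := d (show (0 : Fin 4) ≠ 1 by decide)
    have d02 := d (show (0 : Fin 4) ≠ 2 by decide)
    have d03 := d (show (0 : Fin 4) ≠ 3 by decide)
    have d13 := d (show (1 : Fin 4) ≠ 3 by decide)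
    have d23 := d (show (2 : Fin 4) ≠ 3 by decide)
    let N : SL(2, F) →* H := (MulAut.conj (e (q 1) (q 3))).toMonoidHom.comp L'
    have hN : ∀ Y, N Y = e (q 1) (q 3) * L' Y * (e (q 1) (q 3))⁻¹ := fun Y => rfl
    have hbase : ∀ X, X = v ∨ X = sw v → Commute (L X) (N v) := fun X hX => by
      rw [hN, hL', he g13 hg0 hg1]; exact R.four hn X hX
    have hall : ∀ Y, (∀ X, X = v ∨ X = sw v → Commute (L X) (N Y)) → ∀ X, Commute (L X) (N Y) := fun Y a X => by
      have : Subgroup.closure ({v, sw v} : Set SL(2, F)) ≤ (Subgroup.centralizer ({N Y} : Set H)).comap L := by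
        rw [Subgroup.closure_le]
        exact fun x hx => Subgroup.mem_centralizer_singleton_iff.2 (a x hx).eq
      exact Subgroup.mem_centralizer_singleton_iff.1 (this (hv ▸ Subgroup.mem_top X))
    have hc23 : e (q 2) (q 3) * e (q 1) (q 3) = e (q 1) (q 3) * e (q 2) (q 3) := by
      rw [symm d13]
      exact (ecomm d23 d12.symm d13.symm).symm
    have h23 : ∀ Y, e (q 2) (q 3) * L' Y * (e (q 2) (q 3))⁻¹ = L' (ti Y) := fun Y => by
      rw [hL', hL', ← hact, show e (q 2) (q 3) = α (gg h4) * s * (α (gg h4))⁻¹ from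
        he _ (gg_apply h4 0) (gg_apply h4 1)]
      group
    have hti : ∀ {Y}, (∀ X, Commute (L X) (N Y)) → ∀ X, Commute (L X) (N (ti Y)) := fun {Y} a X => by
      have h' := (a X).map (MulAut.conj (e (q 2) (q 3))).toMonoidHom
      simp only [MulEquiv.coe_toMonoidHom, MulAut.conj_apply] at h'
      rw [(m00 X).eq, mul_inv_cancel_right] at h'
      rwa [hN, ← h23, show e (q 1) (q 3) * (e (q 2) (q 3) * L' Y * (e (q 2) (q 3))⁻¹) * (e (q 1) (q 3))⁻¹ =
        (e (q 1) (q 3) * e (q 2) (q 3)) * L' Y * (e (q 1) (q 3) * e (q 2) (q 3))⁻¹ by group, ← hc23,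
        show e (q 2) (q 3) * e (q 1) (q 3) * L' Y * (e (q 2) (q 3) * e (q 1) (q 3))⁻¹ =
          e (q 2) (q 3) * N Y * (e (q 2) (q 3))⁻¹ by rw [hN]; group]
    have htsw : ∀ {Y}, (∀ X, Commute (L X) (N Y)) → ∀ X, Commute (L X) (N (ti (sw Y))) := fun {Y} a X => by
      have h' := (a (sw X)).map (MulAut.conj (α (tt h4))).toMonoidHom
      simp only [MulEquiv.coe_toMonoidHom, MulAut.conj_apply] at h'
      rw [hflip, sw_sw] at h'
      have e02 : α (tt h4) * e (q 1) (q 3) * (α (tt h4))⁻¹ = e (q 1) (q 3) * (e (q 2) (q 3) * s) := by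
        rw [conj _ d13, hq, tt_apply, tt_apply]
        show e (q 0) (q 2) = _
        rw [symm d23, ← mul_assoc, tri d13 d12 d23.symm, ← e01, ecomm d01 d02 d12, tri d01 d02 d12]
      rw [hN, show α (tt h4) * (e (q 1) (q 3) * L' Y * (e (q 1) (q 3))⁻¹) * (α (tt h4))⁻¹ =
        (α (tt h4) * e (q 1) (q 3) * (α (tt h4))⁻¹) * (α (tt h4) * L' Y * (α (tt h4))⁻¹) *
          (α (tt h4) * e (q 1) (q 3) * (α (tt h4))⁻¹)⁻¹ by group, e02, hflip'] at h'
      rw [hN, ← h23]
      have hc := (hfix (sw Y)).eq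
      rwa [show e (q 1) (q 3) * (e (q 2) (q 3) * L' (sw Y) * (e (q 2) (q 3))⁻¹) * (e (q 1) (q 3))⁻¹ =
        e (q 1) (q 3) * (e (q 2) (q 3) * s) * L' (sw Y) * (e (q 1) (q 3) * (e (q 2) (q 3) * s))⁻¹ by
          calc _ = e (q 1) (q 3) * e (q 2) (q 3) * (L' (sw Y) * s) * s⁻¹ * (e (q 2) (q 3))⁻¹ *
                (e (q 1) (q 3))⁻¹ := by group
            _ = _ := by rw [← hc]; group]
    have hv' : ∀ X, Commute (L X) (N v) := hall v hbase
    have hwv : ∀ X, Commute (L X) (N (sw v)) := fun X => by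
      simpa [ti_ti] using hti (htsw hv') X
    have hfourall : ∀ X Y, Commute (L X) (N Y) := by
      refine commute_closure hv L N ?_
      rintro x - _ (rfl | rfl)
      · exact hv' x
      · exact hwv x
    intro i j k l hij hik hil hjk hjl hkl x y x' y' hxy hxy' t t'
    obtain ⟨g, g2, g3, h⟩ := hfour' hij hik hil hjk hjl hkl
    have g2' : (g * gg h4).1 (q 0) = k := by show g.1 ((gg h4).1 (q 0)) = k; rw [hq, gg_apply]; exact g2
    have g3' : (g * gg h4).1 (q 1) = l := by show g.1 ((gg h4).1 (q 1)) = l; rw [hq, gg_apply]; exact g3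
    obtain ⟨X, hX⟩ : ∃ X, α g * L X * (α g)⁻¹ = f (T x y t) := by
      rcases h with ⟨g0, g1⟩ | ⟨g0, g1⟩ <;> rcases hxy with ⟨rfl, rfl⟩ | ⟨rfl, rfl⟩
      exacts [⟨_, (hLT g g0 g1 t).1⟩, ⟨_, (hLT g g0 g1 t).2⟩, ⟨_, (hLT g g0 g1 t).2⟩, ⟨_, (hLT g g0 g1 t).1⟩]
    obtain ⟨Y, hY⟩ : ∃ Y, α g * L' Y * (α g)⁻¹ = f (T x' y' t') := by
      have e2 : ∀ Y, α g * L' Y * (α g)⁻¹ = α (g * gg h4) * L Y * (α (g * gg h4))⁻¹ := fun Y => by
        rw [hL', map_mul]; group
      rcases hxy' with ⟨rfl, rfl⟩ | ⟨rfl, rfl⟩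
      exacts [⟨_, (e2 _).trans (hLT _ g2' g3' t').1⟩, ⟨_, (e2 _).trans (hLT _ g2' g3' t').2⟩]
    rw [← hX, ← hY]
    rcases h with ⟨g0, g1⟩ | ⟨g0, g1⟩
    · rw [show e j l = α g * e (q 1) (q 3) * (α g)⁻¹ by rw [conj g d13, g1, g3],
        show α g * e (q 1) (q 3) * (α g)⁻¹ * (α g * L' Y * (α g)⁻¹) * (α g * e (q 1) (q 3) * (α g)⁻¹)⁻¹ =
          α g * N Y * (α g)⁻¹ by rw [hN]; group, Commute.conj_iff]
      exact hfourall X Y
    · rw [show e j l = α g * (e (q 1) (q 3) * s) * (α g)⁻¹ by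
        rw [← e01, ecomm d01 d03 d13, tri d01 d03 d13, conj g d03, g0, g3],
        show α g * (e (q 1) (q 3) * s) * (α g)⁻¹ * (α g * L' Y * (α g)⁻¹) *
          (α g * (e (q 1) (q 3) * s) * (α g)⁻¹)⁻¹ =
            α g * (e (q 1) (q 3) * (s * L' Y) * s⁻¹ * (e (q 1) (q 3))⁻¹) * (α g)⁻¹ by group,
        (hfix Y).eq, show e (q 1) (q 3) * (L' Y * s) * s⁻¹ * (e (q 1) (q 3))⁻¹ = N Y by rw [hN]; group,
        Commute.conj_iff]
      exact hfourall X Y
  exact ⟨e, ⟨fun {_ _} h => symm h, fun {_ _} h => sq h, fun {_ _ _} h h' h'' => tri h h' h'',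
    fun g {_ _} h => conj g h, fun {_ _ _ _} h h1 h2 h3 h5 h6 => fix h h1 h2 h3 h5 h6, fun {_ _} h => swp h,
    fun {_ _ _} h h' h'' => cen h h' h'',
    fun {_ _ _} h h' h'' {_ _ _ _} o o' => mid h h' h'' o o',
    fun hn {_ _ _ _} h1 h2 h3 h5 h6 h7 {_ _ _ _} o o' => four hn h1 h2 h3 h5 h6 h7 o o'⟩, e01⟩

end Cfsg.Agent.ShortPres.Plus
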