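import Cfsg.Agent.Lib.ShortPres.Plus.Twin
import Cfsg.Agent.Lib.ShortPres.SLBounded
import Mathlib

/-!
Changes of sign in the plus type orthogonal group, and its centre.
-/

set_option autoImplicit false
set_option linter.unusedSectionVars false

namespace Cfsg.Agent.ShortPres.Plus

open Matrix Cfsg.Agent.SimpleFacts.SLnRootLifts Cfsg.Agent.SimpleFacts.SLnCosets Cfsg.Agent.CurtisTitsD
  Cfsg.Agent.Forms Cfsg.Agent.Forms.Reflections Cfsg.Agent.Forms.PlusStd Cfsg.Agent.Classical.Orth
  Cfsg.Agent.Chevalley.Natural Cfsg.Agent.PlusMult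
open Cfsg.Agent.ShortPres.Linear (pm)

universe u

variable {m : ℕ} {F : Type u} [Field F] [Finite F]

local notation "Ix" => (Fin m ⊕ Fin m)

theorem flip_sq (d : Fin m) : flip m F d * flip m F d = 1 := reflect_sq _

theorem flip_comm' (a b : Fin m) : flip m F a * flip m F b = flip m F b * flip m F a := by
  by_cases h : a = b
  · subst h; rfl
  · exact flip_comm h

/-- Permutation matrices move the changes of sign. -/
theorem flip_perm (g : alternatingGroup (Fin m)) (a : Fin m) :
    lev m F (pm g) * flip m F a * (lev m F (pm g))⁻¹ = flip m F (g.1 a) := by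
  have hP : ∀ i k, ((pm g : SpecialLinearGroup (Fin m) F) : Matrix (Fin m) (Fin m) F) i k =
      if i = g.1 k then 1 else 0 := fun i k => by
    show (g.1⁻¹.permMatrix F) i k = _
    simp only [Equiv.Perm.permMatrix, PEquiv.toMatrix_apply, Equiv.toPEquiv_apply, Option.mem_some_iff]
    by_cases h : i = g.1 k
    · subst h; simp
    · rw [if_neg h, if_neg]
      intro e
      exact h (by rw [← e]; simp)
  have hPi : ∀ i k, (((pm g)⁻¹ : SpecialLinearGroup (Fin m) F) : Matrix (Fin m) (Fin m) F) k i =
      if i = g.1 k then 1 else 0 := fun i k => by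
    rw [← map_inv]
    show (g.1⁻¹⁻¹.permMatrix F) k i = _
    simp only [Equiv.Perm.permMatrix, PEquiv.toMatrix_apply, Equiv.toPEquiv_apply, Option.mem_some_iff, inv_inv]
    by_cases h : i = g.1 k
    · simp [h]
    · rw [if_neg h, if_neg]
      exact fun e => h e.symm
  have e1 : act (lev m F (pm g)) (bv (Sum.inl a)) = bv (Sum.inl (g.1 a)) := by
    funext z
    rw [lev_inl]
    rcases z with z | z <;> simp [hP, bv, Pi.single_apply]
  have e2 : act (lev m F (pm g)) (bv (Sum.inr a)) = bv (Sum.inr (g.1 a)) := by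
    funext z
    rw [lev_inr]
    rcases z with z | z <;> simp [hPi, bv, Pi.single_apply]
  rw [← reflect_hv a, Spinor.reflect_conj, ← reflect_hv (g.1 a)]
  congr 1
  simp only [hv, Sum.swap_inl, map_add, map_smul, e1, e2]

/-- A change of two signs inverts and exchanges the root elements of the two. -/
theorem flips_T {a b : Fin m} (h : a ≠ b) (t : F) :
    flip m F a * flip m F b * lev m F (T a b t) * (flip m F a * flip m F b)⁻¹ = lev m F (T b a (-t)) := by
  have hba : b ≠ a := h.symm
  obtain ⟨a1, a2, a3⟩ := (split m F).act_swp (a := Sum.inl a) rfl (one_ne_zero (α := F))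
  obtain ⟨b1, b2, b3⟩ := (split m F).act_swp (a := Sum.inl b) rfl (one_ne_zero (α := F))
  have e1 : act (flip m F b) (bv (Sum.inl a)) = (1 : F) • bv (Sum.inl a) := by
    rw [one_smul]; exact b3 _ (by simp [h]) (by simp)
  have e2 : act (flip m F b) (bv (Sum.inr b)) = (-1 : F) • bv (Sum.inl b) := by
    rw [show (-1 : F) = -(1 : F)⁻¹ by simp]; exact b2
  have e3 : act (flip m F a) (bv (Sum.inl a)) = (-1 : F) • bv (Sum.inr a) := a1
  have e4 : act (flip m F a) (bv (Sum.inl b)) = (1 : F) • bv (Sum.inl b) := by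
    rw [one_smul]; exact a3 _ (by simp [hba]) (by simp)
  rw [_root_.mul_inv_rev, show flip m F a * flip m F b * lev m F (T a b t) * ((flip m F b)⁻¹ * (flip m F a)⁻¹) =
    flip m F a * (flip m F b * lev m F (T a b t) * (flip m F b)⁻¹) * (flip m F a)⁻¹ by group,
    lev_T h, flip_el b (by simp [h, hba]) _ e1 e2 (by simp [h, hba]), flip_el a (by simp [h, hba]) _ e3 e4 (by simp [h, hba]),
    lev_T hba, el_swap (a := Sum.inl b) (b := Sum.inr a) (by simp [h])]
  congr 1
  ring

/-- A change of signs away from a root element fixes it. -/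
theorem flips_fix {a b i j : Fin m} (hij : i ≠ j) (hia : i ≠ a) (hja : j ≠ a) (hib : i ≠ b) (hjb : j ≠ b) (t : F) :
    flip m F a * flip m F b * lev m F (T i j t) * (flip m F a * flip m F b)⁻¹ = lev m F (T i j t) := by
  rw [_root_.mul_inv_rev, show flip m F a * flip m F b * lev m F (T i j t) * ((flip m F b)⁻¹ * (flip m F a)⁻¹) =
    flip m F a * (flip m F b * lev m F (T i j t) * (flip m F b)⁻¹) * (flip m F a)⁻¹ by group,
    flip_commute_lev hij hib hjb, flip_commute_lev hij hia hja]

/-- A change of signs acts on a root element meeting it in one index as a change of one sign. -/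
theorem flips_one {a b i j : Fin m} (hij : i ≠ j) (hib : i ≠ b) (hjb : j ≠ b) (t : F) :
    flip m F a * flip m F b * lev m F (T i j t) * (flip m F a * flip m F b)⁻¹ = lev2 a (T i j t) := by
  rw [_root_.mul_inv_rev, show flip m F a * flip m F b * lev m F (T i j t) * ((flip m F b)⁻¹ * (flip m F a)⁻¹) =
    flip m F a * (flip m F b * lev m F (T i j t) * (flip m F b)⁻¹) * (flip m F a)⁻¹ by group,
    flip_commute_lev hij hib hjb]
  rfl

/-- The change of two signs, inside the derived group. -/
noncomputable def fp {a b : Fin m} (h : a ≠ b) : commutator (Oplus m F) :=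
  ⟨flip m F a * flip m F b, flip_pair_mem h⟩

theorem el_mem_omega (h3 : 3 ≤ m) (a b : Ix) (t : F) : el (split m F) a b t ∈ commutator (Oplus m F) := by
  obtain ⟨d, hd⟩ : ∃ d : Fin m, d.val + 1 = m := ⟨⟨m - 1, by omega⟩, by simp only; omega⟩
  obtain ⟨c, hc⟩ : ∃ c : Fin m, c.val + 2 = m := ⟨⟨m - 2, by omega⟩, by simp only; omega⟩
  have hcd : c ≠ d := fun e => by subst e; omega
  let P : Twin m F (Oplus m F) :=
    { F1 := lev m F, F2 := lev2 d, d := d, c := c, hcd := hcd
      top := fun i j hi hj t => by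
        by_cases hij : i = j
        · simp [T, hij]
        · exact (flip_commute_lev hij hi hj t).symm
      mid := fun t u => lev_commute hcd t u }
  rw [← map_range_eq_omega (P := P) (p := MonoidHom.id _) (fun _ => rfl) (fun _ => rfl) h3]
  exact rootGroup_le_map (P := P) (p := MonoidHom.id _) (fun _ => rfl) (fun _ => rfl) h3
    (Subgroup.subset_closure ⟨a, b, t, rfl⟩)

/-- The centre consists of scalars. -/
theorem center_scalar (h3 : 3 ≤ m) {g : commutator (Oplus m F)} (hg : g ∈ Subgroup.center _) :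
    ∃ s : F, ∀ k : Ix, act (g : Oplus m F) (bv k) = s • bv k := by
  classical
  have hcomm : ∀ (a b : Ix) (x : Ix → F), act (el (split m F) a b 1) (act g.1 x) = act g.1 (act (el (split m F) a b 1) x) :=
    fun a b x => by
      rw [← act_mul, ← act_mul]
      exact congrArg (fun y : Oplus m F => act y x)
        (congrArg Subtype.val (Subgroup.mem_center_iff.1 hg ⟨_, el_mem_omega h3 a b 1⟩))
  -- the images of the basis vectors
  have key : ∀ (c b : Ix), c ≠ Sum.swap b → c ≠ b →
      act g.1 (bv b) = act g.1 (bv c) c • bv b - act g.1 (bv c) (Sum.swap b) • bv (Sum.swap c) := by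
    intro c b h1 h2
    have h := hcomm (Sum.swap c) b (bv c)
    have hb : b ≠ Sum.swap (Sum.swap c) := by rw [Sum.swap_swap]; exact h2.symm
    have e1 : (bv c : Ix → F) (Sum.swap b) = 0 := by simp [bv, Ne.symm h1]
    have e2 : (bv c : Ix → F) c = 1 := by simp [bv]
    rw [act_el hb, act_el hb, Sum.swap_swap, e1, e2, one_mul, one_mul, mul_one, mul_zero, zero_smul, sub_zero, one_smul,
      map_add] at h
    rw [add_sub_assoc] at h
    exact (add_left_cancel h).symm
  have hd : ∀ b : Ix, act g.1 (bv b) = act g.1 (bv b) b • bv b := by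
    intro b
    funext z
    by_cases hz : z = b
    · subst hz; simp [bv]
    have hex : ∃ c : Ix, c ≠ Sum.swap b ∧ c ≠ b ∧ Sum.swap c ≠ z := by
      obtain ⟨c, -, hc⟩ := Finset.exists_mem_notMem_of_card_lt_card (s := ({Sum.swap b, b, Sum.swap z} : Finset Ix))
        (t := Finset.univ) (lt_of_le_of_lt Finset.card_le_three (by simp; omega))
      simp only [Finset.mem_insert, Finset.mem_singleton, not_or] at hc
      exact ⟨c, hc.1, hc.2.1, fun e => hc.2.2 (by rw [← e, Sum.swap_swap])⟩
    obtain ⟨c, h1, h2, h4⟩ := hex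
    rw [key c b h1 h2]
    simp [bv, hz, Ne.symm h4]
  have hs : ∀ b c : Ix, c ≠ Sum.swap b → c ≠ b → act g.1 (bv b) b = act g.1 (bv c) c := by
    intro b c h1 h2
    have hne : Sum.swap c ≠ b := fun e => h1 (by rw [← e, Sum.swap_swap])
    conv_lhs => rw [key c b h1 h2]
    simp [bv, hne.symm]
  obtain ⟨b0⟩ : Nonempty Ix := ⟨Sum.inl ⟨0, by omega⟩⟩
  refine ⟨act g.1 (bv b0) b0, fun k => ?_⟩
  rw [hd k]
  congr 1
  by_cases h : k = b0
  · subst h; simp [bv]
  have hex : ∃ c : Ix, c ≠ Sum.swap k ∧ c ≠ k ∧ c ≠ Sum.swap b0 ∧ c ≠ b0 := by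
    obtain ⟨c, -, hc⟩ := Finset.exists_mem_notMem_of_card_lt_card (s := ({Sum.swap k, k, Sum.swap b0, b0} : Finset Ix))
      (t := Finset.univ) (lt_of_le_of_lt Finset.card_le_four (by simp; omega))
    simp only [Finset.mem_insert, Finset.mem_singleton, not_or] at hc
    exact ⟨c, hc.1, hc.2.1, hc.2.2.1, hc.2.2.2⟩
  obtain ⟨c, h1, h2, h4, h5⟩ := hex
  simpa [bv] using (hs k c h1 h2).trans (hs b0 c h4 h5).symm

/-- The centre is cyclic. -/
theorem center_cyclic (h3 : 3 ≤ m) : IsCyclic (Subgroup.center (commutator (Oplus m F))) := by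
  classical
  let k0 : Ix := Sum.inl ⟨0, by omega⟩
  let f : Subgroup.center (commutator (Oplus m F)) →* F :=
    { toFun := fun g => act g.1.1 (bv k0) k0
      map_one' := by simp [act_one, bv]
      map_mul' := fun g g' => by
        obtain ⟨s', hs'⟩ := center_scalar h3 g'.2
        show act (g.1.1 * g'.1.1) (bv k0) k0 = _
        rw [act_mul, hs', map_smul]
        simp [bv, mul_comm] }
  have hf : Function.Injective f := by
    intro g g' h
    obtain ⟨s, hs⟩ := center_scalar h3 g.2
    obtain ⟨s', hs'⟩ := center_scalar h3 g'.2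
    have e : s = s' := by
      have h' : act g.1.1 (bv k0) k0 = act g'.1.1 (bv k0) k0 := h
      rw [hs, hs'] at h'
      simpa [bv] using h'
    exact Subtype.ext (Subtype.ext ((split m F).ext_bv fun k => by rw [hs, hs', e]))
  exact isCyclic_of_subgroup_isDomain f hf

end Cfsg.Agent.ShortPres.Plus
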