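import Cfsg.Agent.Lib.PlusMult.Kernel
import Cfsg.Agent.Lib.PlusMult.Spinor
import Mathlib

/-!
`Ω⁺` is the universal group of a twin whose kernel element is trivial.
-/

set_option autoImplicit false
set_option linter.unusedSectionVars false

namespace Cfsg.Agent.ShortPres.Plus

open Matrix Cfsg.Agent.SimpleFacts.SLnRootLifts Cfsg.Agent.CurtisTitsD Cfsg.Agent.CurtisTitsD.Bruhat
  Cfsg.Agent.Forms Cfsg.Agent.Forms.Reflections Cfsg.Agent.Classical.Orth Cfsg.Agent.Chevalley.Natural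
  Cfsg.Agent.PlusMult

universe u v

variable {m : ℕ} {F : Type u} [Field F] [Finite F]

/-- The Levi embedding into the derived group. -/
noncomputable def levC (h3 : 3 ≤ m) : SpecialLinearGroup (Fin m) F →* commutator (Oplus m F) :=
  (lev m F).codRestrict _ fun A => wS_mem_omega h3 A

/-- The second Levi embedding into the derived group. -/
noncomputable def levC2 (h3 : 3 ≤ m) (d : Fin m) : SpecialLinearGroup (Fin m) F →* commutator (Oplus m F) :=
  (lev2 d).codRestrict _ fun A => (inferInstance : (commutator (Oplus m F)).Normal).conj_mem _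
    (wS_mem_omega h3 A) _

/-- The standard twin in a product. -/
theorem exists_pair_twin {H : Type v} [Group H] (P : Twin m F H) :
    ∃ Q : Twin m F (H × Oplus m F), Q.F1 = P.F1.prod (lev m F) ∧ Q.F2 = P.F2.prod (lev2 P.d) ∧
      Q.d = P.d ∧ Q.c = P.c := by
  refine ⟨{
    F1 := P.F1.prod (lev m F)
    F2 := P.F2.prod (lev2 P.d)
    d := P.d
    c := P.c
    hcd := P.hcd
    top := fun i j hi hj t => Prod.ext (P.top i j hi hj t) ?_
    mid := fun t u => ?_ }, rfl, rfl, rfl, rfl⟩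
  · show lev m F (T i j t) = lev2 P.d (T i j t)
    by_cases hij : i = j
    · simp [T, hij]
    · exact (flip_commute_lev hij hi hj t).symm
  · obtain ⟨a1, a2, a3, a4⟩ := P.mid t u
    obtain ⟨b1, b2, b3, b4⟩ := lev_commute (F := F) P.hcd t u
    exact ⟨Prod.ext a1.eq b1.eq, Prod.ext a2.eq b2.eq, Prod.ext a3.eq b3.eq, Prod.ext a4.eq b4.eq⟩

/-- The universal property. -/
theorem twin_hom {H : Type v} [Group H] (h3 : 3 ≤ m) (P : Twin m F H) (hd : P.d.val + 1 = m)
    (hc : P.c.val + 2 = m) (hz : zed P (-1 : Fˣ) = 1) :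
    ∃ φ : commutator (Oplus m F) →* H,
      (∀ A, φ (levC h3 A) = P.F1 A) ∧ ∀ A, φ (levC2 h3 P.d A) = P.F2 A := by
  obtain ⟨Q, hQ1, hQ2, hQd, hQc⟩ := exists_pair_twin P
  let π : H × Oplus m F →* Oplus m F := MonoidHom.snd H (Oplus m F)
  have hp1 : ∀ A, π (Q.F1 A) = lev m F A := fun A => by rw [hQ1]; rfl
  have hp2 : ∀ A, π (Q.F2 A) = flip m F Q.d * lev m F A * (flip m F Q.d)⁻¹ := fun A => by
    rw [hQ2, hQd]; rfl
  have hd' : Q.d.val + 1 = m := hQd ▸ hd
  have hc' : Q.c.val + 2 = m := hQc ▸ hc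
  set K := Q.F1.range ⊔ Q.F2.range with hK
  have hzQ : (zed Q (-1 : Fˣ)).1 = 1 := by
    rw [show (zed Q (-1 : Fˣ)).1 = zed P (-1 : Fˣ) by
      simp only [zed, hQ1, hQ2, hQc, hQd, Prod.fst_mul, MonoidHom.prod_apply]]
    exact hz
  have hinj : ∀ x ∈ K, π x = 1 → x = 1 := by
    intro x hx hx1
    obtain ⟨u, hu, g, hg, v, hv, rfl⟩ := mem_cells (datum Q h3 hd' hc') (range_le_nodes h3 hd' hc' hx)
    obtain ⟨ρ, -, hM⟩ := exists_MP hp1 hp2 h3 hd' hc' hg
    have hgT : π g = π (u⁻¹ * v⁻¹) := by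
      rw [map_mul, map_mul] at hx1
      rw [map_mul, map_inv, map_inv]
      calc π g = (π u)⁻¹ * (π u * π g * π v) * (π v)⁻¹ := by group
        _ = (π u)⁻¹ * (π v)⁻¹ := by rw [hx1, mul_one]
    have hg1 : π g = 1 := eq_one_of_tri hM
      (hgT ▸ isTri_U hp1 hp2 h3 hd' hc' (mul_mem (inv_mem hu) (inv_mem hv)))
    have hgone : g = 1 := by
      have hT := mem_tor_of_MP hp1 hp2 h3 hd' hc' hg (by rw [hg1]; exact MP.one)
      rcases tor_ker' hp1 hp2 hT hg1 with e | e
      · exact e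
      · refine Prod.ext ?_ hg1
        rw [e, hzQ]; rfl
    rw [hgone, mul_one] at hx1 ⊢
    exact U_ker hp1 hp2 h3 hd' hc' (mul_mem hu hv) hx1
  have hrange : (π.comp K.subtype).range = commutator (Oplus m F) := by
    rw [MonoidHom.range_comp, Subgroup.range_subtype]
    exact map_range_eq_omega hp1 hp2 h3
  let e : K ≃* commutator (Oplus m F) := (MonoidHom.ofInjective (f := π.comp K.subtype)
    ((injective_iff_map_eq_one _).2 fun x hx => Subtype.ext (hinj x x.2 hx))).trans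
      (MulEquiv.subgroupCongr hrange)
  have key : ∀ (x : K) (y : commutator (Oplus m F)), (x : H × Oplus m F).2 = y.1 → e.symm y = x :=
    fun x y h => e.injective (by
      rw [MulEquiv.apply_symm_apply]
      exact Subtype.ext h.symm)
  refine ⟨((MonoidHom.fst H (Oplus m F)).comp K.subtype).comp e.symm.toMonoidHom, fun A => ?_, fun A => ?_⟩
  · show ((e.symm (levC h3 A) : K) : H × Oplus m F).1 = _
    rw [key ⟨Q.F1 A, Subgroup.mem_sup_left ⟨A, rfl⟩⟩ (levC h3 A) (hp1 A)]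
    show (Q.F1 A).1 = _
    rw [hQ1]; rfl
  · show ((e.symm (levC2 h3 P.d A) : K) : H × Oplus m F).1 = _
    rw [key ⟨Q.F2 A, Subgroup.mem_sup_right ⟨A, rfl⟩⟩ _ (by
      show π (Q.F2 A) = (levC2 h3 P.d A).1
      rw [hp2, hQd]; rfl)]
    show (Q.F2 A).1 = _
    rw [hQ2]; rfl

/-- The two images generate the derived group. -/
theorem levC_sup (h3 : 3 ≤ m) {c d : Fin m} (hcd : c ≠ d) (M : Subgroup (commutator (Oplus m F)))
    (h1 : ∀ A, levC h3 A ∈ M) (h2 : ∀ A, levC2 h3 d A ∈ M) : M = ⊤ := by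
  let P : Twin m F (Oplus m F) :=
    { F1 := lev m F, F2 := lev2 d, d := d, c := c, hcd := hcd
      top := fun i j hi hj t => by
        by_cases hij : i = j
        · simp [T, hij]
        · exact (flip_commute_lev hij hi hj t).symm
      mid := fun t u => lev_commute hcd t u }
  have e := map_range_eq_omega (P := P) (p := MonoidHom.id _) (fun _ => rfl) (fun _ => rfl) h3
  rw [Subgroup.map_id] at e
  refine eq_top_iff.2 fun x _ => ?_
  have hle : P.F1.range ⊔ P.F2.range ≤ M.map (commutator (Oplus m F)).subtype := by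
    refine sup_le ?_ ?_ <;> rintro _ ⟨A, rfl⟩
    · exact ⟨_, h1 A, rfl⟩
    · exact ⟨_, h2 A, rfl⟩
  obtain ⟨y, hy, hxy⟩ := hle (e.ge x.2)
  rwa [← Subtype.ext (hxy : (y : Oplus m F) = x)]

end Cfsg.Agent.ShortPres.Plus
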