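import Cfsg.Agent.Lib.ShortPres.Plus.Base
import Cfsg.Agent.Lib.ShortPres.Plus.Twin
import Cfsg.Agent.Lib.ShortPres.Joint.Main
import Mathlib

/-!
`SL_n` and one change of two signs give `Ω⁺` with few relations.
-/

set_option autoImplicit false
set_option linter.unusedSectionVars false
set_option linter.unusedSimpArgs false

namespace Cfsg.Agent.ShortPres.Plus

open Equiv Monoid Matrix Cfsg.Agent.SimpleFacts.SLnRootLifts Cfsg.Agent.SimpleFacts.SLnCosets
  Cfsg.Agent.SimpleFacts.SLnSystem Cfsg.Agent.CurtisTitsD Cfsg.Agent.Classical.GL2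
  Cfsg.Agent.ShortPres.Joint Cfsg.Agent.ShortPres.Bound
open Cfsg.Agent.ShortPres.Linear (pm pm_conj)
open scoped MatrixGroups commutatorElement

section perms

/-- The permutation of two points of given sign. -/
noncomputable def twoSign (m : ℕ) : Perm (Fin m) →* Perm (Fin 2) where
  toFun σ := if Perm.sign σ = 1 then 1 else swap 0 1
  map_one' := by simp
  map_mul' σ τ := by
    rcases Int.units_eq_one_or (Perm.sign σ) with h | h <;> rcases Int.units_eq_one_or (Perm.sign τ) with h' | h' <;>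
      simp [map_mul, h, h', Equiv.swap_mul_self]

theorem sign_twoSign {m : ℕ} (σ : Perm (Fin m)) : Perm.sign (twoSign m σ) = Perm.sign σ := by
  show Perm.sign (if Perm.sign σ = 1 then 1 else swap (0 : Fin 2) 1) = _
  rcases Int.units_eq_one_or (Perm.sign σ) with h | h <;> simp [h]

theorem perm_two : ∀ τ : Perm (Fin 2), τ = if Perm.sign τ = 1 then 1 else swap 0 1 := by decide

variable {n : ℕ}

/-- Two points and the rest. -/
def cut (h4 : 4 ≤ n) : Fin 2 ⊕ Fin (n - 2) ≃ Fin n := finSumFinEquiv.trans (finCongr (by omega))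

theorem cut_inl (h4 : 4 ≤ n) : cut h4 (Sum.inl 0) = pt h4 0 ∧ cut h4 (Sum.inl 1) = pt h4 1 :=
  ⟨Fin.ext (by simp [cut, pt]), Fin.ext (by simp [cut, pt])⟩

/-- The stabiliser of the first two points as a set. -/
noncomputable def psi (h4 : 4 ≤ n) : Perm (Fin (n - 2)) →* alternatingGroup (Fin n) :=
  MonoidHom.codRestrict
    ((Equiv.permCongrHom (cut h4)).toMonoidHom.comp
      ((Perm.sumCongrHom (Fin 2) (Fin (n - 2))).comp ((twoSign (n - 2)).prod (MonoidHom.id _))))
    (alternatingGroup (Fin n)) fun σ => Perm.mem_alternatingGroup.2 (by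
      show Perm.sign ((cut h4).permCongr (Perm.sumCongr (twoSign (n - 2) σ) σ)) = 1
      rw [Perm.sign_permCongr, Perm.sign_sumCongr, sign_twoSign, Int.units_mul_self])

theorem psi_val (h4 : 4 ≤ n) (σ : Perm (Fin (n - 2))) :
    (psi h4 σ).1 = (cut h4).permCongr (Perm.sumCongr (twoSign (n - 2) σ) σ) := rfl

theorem psi_ord (h4 : 4 ≤ n) (σ : Perm (Fin (n - 2))) :
    Ord (pt h4 0) (pt h4 1) ((psi h4 σ).1 (pt h4 0)) ((psi h4 σ).1 (pt h4 1)) := by
  rw [psi_val, ← (cut_inl h4).1, ← (cut_inl h4).2]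
  simp only [Equiv.permCongr_apply, Equiv.symm_apply_apply, Perm.sumCongr_apply, Sum.map_inl]
  rcases Int.units_eq_one_or (Perm.sign σ) with h | h
  · left; simp [twoSign, h]
  · right; simp [twoSign, h]

theorem psi_surj (h4 : 4 ≤ n) (g : alternatingGroup (Fin n))
    (hg : Ord (pt h4 0) (pt h4 1) (g.1 (pt h4 0)) (g.1 (pt h4 1))) : ∃ σ, psi h4 σ = g := by
  set π : Perm (Fin 2 ⊕ Fin (n - 2)) := (cut h4).symm.permCongr g.1 with hπ
  have hmaps : Set.MapsTo π (Set.range Sum.inl) (Set.range Sum.inl) := by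
    rintro _ ⟨a, rfl⟩
    have e : π (Sum.inl a) = (cut h4).symm (g.1 (cut h4 (Sum.inl a))) := by simp [hπ]
    rw [e]
    fin_cases a
    · show (cut h4).symm (g.1 (cut h4 (Sum.inl 0))) ∈ _
      rw [(cut_inl h4).1]
      rcases hg with ⟨h, -⟩ | ⟨h, -⟩ <;> rw [h]
      exacts [⟨0, by rw [← (cut_inl h4).1, Equiv.symm_apply_apply]⟩,
        ⟨1, by rw [← (cut_inl h4).2, Equiv.symm_apply_apply]⟩]
    · show (cut h4).symm (g.1 (cut h4 (Sum.inl 1))) ∈ _
      rw [(cut_inl h4).2]
      rcases hg with ⟨-, h⟩ | ⟨-, h⟩ <;> rw [h]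
      exacts [⟨1, by rw [← (cut_inl h4).2, Equiv.symm_apply_apply]⟩,
        ⟨0, by rw [← (cut_inl h4).1, Equiv.symm_apply_apply]⟩]
  obtain ⟨⟨τ, σ⟩, hτσ⟩ := Perm.mem_sumCongrHom_range_of_perm_mapsTo_inl hmaps
  replace hτσ : Perm.sumCongr τ σ = π := hτσ
  have hs : Perm.sign τ * Perm.sign σ = 1 := by
    rw [← Perm.sign_sumCongr, hτσ, hπ, Perm.sign_permCongr]
    exact Perm.mem_alternatingGroup.1 g.2
  have hτ : twoSign (n - 2) σ = τ := by
    rw [perm_two τ]
    show (if Perm.sign σ = 1 then 1 else swap 0 1) = _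
    rw [show Perm.sign τ = Perm.sign σ by
      rw [← mul_one (Perm.sign τ), ← Int.units_mul_self (Perm.sign σ), ← mul_assoc, hs, one_mul]]
  refine ⟨σ, Subtype.ext ?_⟩
  rw [psi_val, hτ, hτσ, hπ]
  ext x
  simp

theorem gens_two : ∃ S : List (Perm (Fin (4 - 2))), S.length = 1 ∧ Subgroup.closure {x | x ∈ S} = ⊤ := by
  refine ⟨[swap (0 : Fin 2) 1], rfl, eq_top_iff.2 fun x _ => ?_⟩
  rcases (by decide : ∀ τ : Perm (Fin 2), τ = 1 ∨ τ = swap 0 1) x with h | h
  · rw [h]; exact one_mem _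
  · exact Subgroup.subset_closure (by simp [h])

theorem gens_pair (hn : 4 ≤ n) :
    ∃ S : List (Perm (Fin (n - 2))), S.length = 2 ∧ Subgroup.closure {x | x ∈ S} = ⊤ := by
  have h2 : 2 ≤ n - 2 := by omega
  let x : Fin (n - 2) := ⟨0, by omega⟩
  refine ⟨[finRotate (n - 2), swap x (finRotate (n - 2) x)], rfl, ?_⟩
  rw [← Perm.closure_cycle_adjacent_swap (isCycle_finRotate_of_le h2) (support_finRotate_of_le h2) x]
  congr 1
  ext y
  simp

end perms

variable {n : ℕ} {F : Type*} [Field F] [Fintype F]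

local notation "Ωp" => commutator (Oplus n F)

theorem levC_val (h3 : 3 ≤ n) (A : SpecialLinearGroup (Fin n) F) : (levC h3 A : Oplus n F) = lev n F A := rfl

theorem fp_val {a b : Fin n} (h : a ≠ b) : (fp (F := F) h : Oplus n F) = flip n F a * flip n F b := rfl

/-- A permutation carries a change of two signs to another. -/
theorem levC_fp (h3 : 3 ≤ n) (g : alternatingGroup (Fin n)) {a b : Fin n} (h : a ≠ b) {x y : Fin n} (hxy : x ≠ y)
    (ha : g.1 a = x) (hb : g.1 b = y) :
    levC h3 (pm g) * fp (F := F) h * (levC h3 (pm g))⁻¹ = fp hxy := by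
  refine Subtype.ext ?_
  push_cast [levC_val, fp_val]
  rw [show lev n F (pm g) * (flip n F a * flip n F b) * (lev n F (pm g))⁻¹ =
    (lev n F (pm g) * flip n F a * (lev n F (pm g))⁻¹) * (lev n F (pm g) * flip n F b * (lev n F (pm g))⁻¹) by group,
    flip_perm, flip_perm, ha, hb]

/-- A homomorphism fixed on both root groups by a conjugation. -/
theorem commute_of_roots {G : Type*} [Group G] (L : SL(2, F) →* G) (s : G)
    (h1 : ∀ c, s * L (uniSL c) * s⁻¹ = L (uniSL c)) (h2 : ∀ c, s * L (lowSL c) * s⁻¹ = L (lowSL c))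
    (X : SL(2, F)) : Commute s (L X) :=
  mul_inv_eq_iff_eq_mul.1 (hom_ext2 (f := (MulAut.conj s).toMonoidHom.comp L) (g := L) h1 h2 X)

section truth

variable (h4 : 4 ≤ n) {b : SL(2, F) →* SpecialLinearGroup (Fin n) F} (hb : Blk h4 b)
include hb

theorem truth_act (h3 : 3 ≤ n) (h01 : pt h4 0 ≠ pt h4 1) (X : SL(2, F)) :
    fp h01 * levC h3 (b X) * (fp h01)⁻¹ = levC h3 (b (ti X)) := by
  refine hom_ext2 (f := (MulAut.conj (fp (F := F) h01)).toMonoidHom.comp ((levC h3).comp b))
    (g := ((levC h3).comp b).comp ti) (fun c => Subtype.ext ?_) (fun c => Subtype.ext ?_) X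
  · show flip n F (pt h4 0) * flip n F (pt h4 1) * lev n F (b (uniSL c)) *
      (flip n F (pt h4 0) * flip n F (pt h4 1))⁻¹ = lev n F (b (ti (uniSL c)))
    rw [(ti_uni c).1, hb.uni, hb.low, flips_T h01]
  · show flip n F (pt h4 0) * flip n F (pt h4 1) * lev n F (b (lowSL c)) *
      (flip n F (pt h4 0) * flip n F (pt h4 1))⁻¹ = lev n F (b (ti (lowSL c)))
    rw [flip_comm', (ti_uni c).2, hb.uni, hb.low, flips_T h01.symm]

theorem truth_fix (h3 : 3 ≤ n) (h01 : pt h4 0 ≠ pt h4 1) (X : SL(2, F)) :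
    Commute (fp h01) (levC h3 (pm (gg h4) * b X * (pm (gg h4))⁻¹)) := by
  have d02 := pt_ne h4 (show (0 : Fin 4) ≠ 2 by decide)
  have d03 := pt_ne h4 (show (0 : Fin 4) ≠ 3 by decide)
  have d12 := pt_ne h4 (show (1 : Fin 4) ≠ 2 by decide)
  have d13 := pt_ne h4 (show (1 : Fin 4) ≠ 3 by decide)
  have d23 := pt_ne h4 (show (2 : Fin 4) ≠ 3 by decide)
  have hw : ∀ c, pm (gg h4) * b (uniSL c) * (pm (gg h4))⁻¹ = T (pt h4 2) (pt h4 3) c ∧
      pm (gg h4) * b (lowSL c) * (pm (gg h4))⁻¹ = T (pt h4 3) (pt h4 2) c :=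
    fun c => hb.conj _ (gg_apply h4 0) (gg_apply h4 1) c
  suffices key : Commute (fp (F := F) h01)
      ((levC h3).comp ((MulAut.conj (pm (gg h4))).toMonoidHom.comp b) X) by
    simpa only [MonoidHom.comp_apply, MulEquiv.coe_toMonoidHom, MulAut.conj_apply] using key
  refine commute_of_roots _ _ (fun c => Subtype.ext ?_) (fun c => Subtype.ext ?_) X
  all_goals simp only [MonoidHom.comp_apply, MulEquiv.coe_toMonoidHom, MulAut.conj_apply, Subgroup.coe_mul,
    Subgroup.coe_inv, levC_val, fp_val, (hw c).1, (hw c).2]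
  · rw [flips_fix d23 d02.symm d03.symm d12.symm d13.symm]
  · rw [flips_fix d23.symm d03.symm d02.symm d13.symm d12.symm]

theorem truth_mid (h3 : 3 ≤ n) (d12 : pt h4 1 ≠ pt h4 2) (X Y : SL(2, F)) :
    Commute (levC h3 (b X)) (fp d12 * levC h3 (b Y) * (fp d12)⁻¹) := by
  have d01 := pt_ne h4 (show (0 : Fin 4) ≠ 1 by decide)
  have d02 := pt_ne h4 (show (0 : Fin 4) ≠ 2 by decide)
  refine commute_closure closure_roots ((levC h3).comp b)
    ((MulAut.conj (fp (F := F) d12)).toMonoidHom.comp ((levC h3).comp b)) ?_ X Y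
  rintro _ (⟨c, rfl⟩ | ⟨c, rfl⟩) _ (⟨c', rfl⟩ | ⟨c', rfl⟩) <;> refine Subtype.ext ?_
  all_goals
    show lev n F (b _) * (flip n F (pt h4 1) * flip n F (pt h4 2) * lev n F (b _) *
        (flip n F (pt h4 1) * flip n F (pt h4 2))⁻¹) =
      flip n F (pt h4 1) * flip n F (pt h4 2) * lev n F (b _) * (flip n F (pt h4 1) * flip n F (pt h4 2))⁻¹ *
        lev n F (b _)
    simp only [hb.uni, hb.low]
  · rw [flips_one d01 d02 d12]
    exact (lev_commute d01 c c').1.eq
  · rw [flips_one d01.symm d12 d02]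
    exact (lev_commute d01 c c').2.1.eq
  · rw [flips_one d01 d02 d12]
    exact (lev_commute d01 c c').2.2.1.eq
  · rw [flips_one d01.symm d12 d02]
    exact (lev_commute d01 c c').2.2.2.eq

theorem truth_four (h3 : 3 ≤ n) (d13 : pt h4 1 ≠ pt h4 3) (X Y : SL(2, F)) : Commute (levC h3 (b X))
    (fp d13 * levC h3 (pm (gg h4) * b Y * (pm (gg h4))⁻¹) * (fp d13)⁻¹) := by
  have d01 := pt_ne h4 (show (0 : Fin 4) ≠ 1 by decide)
  have d02 := pt_ne h4 (show (0 : Fin 4) ≠ 2 by decide)
  have d03 := pt_ne h4 (show (0 : Fin 4) ≠ 3 by decide)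
  have d12 := pt_ne h4 (show (1 : Fin 4) ≠ 2 by decide)
  have d23 := pt_ne h4 (show (2 : Fin 4) ≠ 3 by decide)
  have hw : ∀ c, pm (gg h4) * b (uniSL c) * (pm (gg h4))⁻¹ = T (pt h4 2) (pt h4 3) c ∧
      pm (gg h4) * b (lowSL c) * (pm (gg h4))⁻¹ = T (pt h4 3) (pt h4 2) c :=
    fun c => hb.conj _ (gg_apply h4 0) (gg_apply h4 1) c
  suffices key : Commute ((levC h3).comp b X) (((MulAut.conj (fp (F := F) d13)).toMonoidHom.comp
      ((levC h3).comp ((MulAut.conj (pm (gg h4))).toMonoidHom.comp b))) Y) by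
    simpa only [MonoidHom.comp_apply, MulEquiv.coe_toMonoidHom, MulAut.conj_apply] using key
  refine commute_closure closure_roots _ _ ?_ X Y
  rintro _ (⟨c, rfl⟩ | ⟨c, rfl⟩) _ (⟨c', rfl⟩ | ⟨c', rfl⟩) <;> refine Subtype.ext ?_
  all_goals
    simp only [MonoidHom.comp_apply, MulEquiv.coe_toMonoidHom, MulAut.conj_apply, Subgroup.coe_mul,
      Subgroup.coe_inv, levC_val, fp_val, fun c => (hw c).1, fun c => (hw c).2]
    simp only [hb.uni, hb.low]
    rw [flip_comm' (pt h4 1) (pt h4 3)]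
  · rw [flips_one d23 d12.symm d13.symm, show lev n F (T (pt h4 0) (pt h4 1) c) = lev2 (pt h4 3) (T (pt h4 0) (pt h4 1) c) from
      (flip_commute_lev d01 d03 d13 c).symm]
    exact ((show Commute _ _ from T_comm d01 d23 d03 d12 c c').map (lev2 (pt h4 3))).eq
  · rw [flips_one d23.symm d13.symm d12.symm, show lev n F (T (pt h4 0) (pt h4 1) c) = lev2 (pt h4 3) (T (pt h4 0) (pt h4 1) c) from
      (flip_commute_lev d01 d03 d13 c).symm]
    exact ((show Commute _ _ from T_comm d01 d23.symm d02 d13 c c').map (lev2 (pt h4 3))).eq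
  · rw [flips_one d23 d12.symm d13.symm, show lev n F (T (pt h4 1) (pt h4 0) c) = lev2 (pt h4 3) (T (pt h4 1) (pt h4 0) c) from
      (flip_commute_lev d01.symm d13 d03 c).symm]
    exact ((show Commute _ _ from T_comm d01.symm d23 d13 d02 c c').map (lev2 (pt h4 3))).eq
  · rw [flips_one d23.symm d13.symm d12.symm, show lev n F (T (pt h4 1) (pt h4 0) c) = lev2 (pt h4 3) (T (pt h4 1) (pt h4 0) c) from
      (flip_commute_lev d01.symm d13 d03 c).symm]
    exact ((show Commute _ _ from T_comm d01.symm d23.symm d12 d03 c c').map (lev2 (pt h4 3))).eq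

end truth

set_option maxHeartbeats 800000 in
/-- The general count. -/
theorem pres_core (h4 : 4 ≤ n) {a k : ℕ} {fA : Fin a → SpecialLinearGroup (Fin n) F} (hA : Seven.On fA k)
    (S : List (Perm (Fin (n - 2)))) (hS : Subgroup.closure {x | x ∈ S} = ⊤) :
    PresN Ωp (a + 1) (k + (S.length + 4 + if n = 4 then 3 else 0)) := by
  classical
  have h3 : 3 ≤ n := by omega
  obtain ⟨v, hv⟩ := exists_swapped F
  obtain ⟨u, hu⟩ := exists_starred F
  let e : Fin 3 ↪ Fin n := ⟨fun i => ⟨i, by omega⟩, fun i j h => Fin.ext (congrArg Fin.val h :)⟩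
  obtain ⟨iB, hiB⟩ := Linear.exists_block (F := F) (β := Fin 3) (by simp) e
  let b : SL(2, F) →* SpecialLinearGroup (Fin n) F := iB.comp Chevalley.SingleBond.B01
  have hb : Blk h4 b := ⟨fun c => by
      show iB _ = _
      rw [← (Three.T_blocks c).1]; exact hiB 0 1 (by decide) c,
    fun c => by
      show iB _ = _
      rw [← (Three.T_blocks c).2.1]; exact hiB 1 0 (by decide) c⟩
  set q := pt h4 with hq
  have d : ∀ {k l : Fin 4}, k ≠ l → q k ≠ q l := fun h => pt_ne h4 h
  have d01 := d (show (0 : Fin 4) ≠ 1 by decide)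
  have d02 := d (show (0 : Fin 4) ≠ 2 by decide)
  have d03 := d (show (0 : Fin 4) ≠ 3 by decide)
  have d12 := d (show (1 : Fin 4) ≠ 2 by decide)
  have d13 := d (show (1 : Fin 4) ≠ 3 by decide)
  have d23 := d (show (2 : Fin 4) ≠ 3 by decide)
  obtain ⟨g13, hg0, hg1, -⟩ := exists_four' d01 d02 d12 d03 d13 d23 d13 d12 d23.symm d01.symm d03.symm d02.symm
  have cc0 : (c3 h4).1 (q 0) = q 1 := by
    show (swap (q 0) (q 1) * swap (q 1) (q 2)) (q 0) = q 1
    simp [swap_apply_def, d01, d02]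
  have cc1 : (c3 h4).1 (q 1) = q 2 := by
    show (swap (q 0) (q 1) * swap (q 1) (q 2)) (q 1) = q 2
    simp [swap_apply_def, d02.symm, d12.symm]
  have cc2 : (c3 h4).1 (q 2) = q 0 := by
    show (swap (q 0) (q 1) * swap (q 1) (q 2)) (q 2) = q 0
    simp [swap_apply_def, d01.symm, d12.symm]
  let l : SpecialLinearGroup (Fin n) F →* Coprod (SpecialLinearGroup (Fin n) F) (FreeGroup (Fin 1)) := Coprod.inl
  let y : Coprod (SpecialLinearGroup (Fin n) F) (FreeGroup (Fin 1)) := Coprod.inr (FreeGroup.of 0)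
  let y12 : Coprod (SpecialLinearGroup (Fin n) F) (FreeGroup (Fin 1)) := l (pm (c3 h4)) * y * (l (pm (c3 h4)))⁻¹
  let w23 : Coprod (SpecialLinearGroup (Fin n) F) (FreeGroup (Fin 1)) := l (pm (gg h4)) * l (b v) * (l (pm (gg h4)))⁻¹
  let y13 : Coprod (SpecialLinearGroup (Fin n) F) (FreeGroup (Fin 1)) := l (pm g13) * y * (l (pm g13))⁻¹
  let E : List (Coprod (SpecialLinearGroup (Fin n) F) (FreeGroup (Fin 1))) := S.map (fun σ => ⁅y, l (pm (psi h4 σ))⁆) ++
    ((y * y12) * (l (pm (c3 h4 * c3 h4)) * y * (l (pm (c3 h4 * c3 h4)))⁻¹)⁻¹ :: ⁅y, w23⁆ ::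
      (y * l (b v) * y⁻¹ * (l (b (ti v)))⁻¹) :: ⁅l (b u), y12 * l (b u) * y12⁻¹⁆ ::
        if n = 4 then [y * y, ⁅l (b v), y13 * w23 * y13⁻¹⁆, ⁅l (b (sw v)), y13 * w23 * y13⁻¹⁆] else [])
  have hlen : E.length = S.length + 4 + if n = 4 then 3 else 0 := by
    simp only [E, List.length_append, List.length_map, List.length_cons]
    split_ifs <;> simp <;> omega
  rw [← hlen]
  let s : Ωp := fp d01
  have h12 : levC h3 (pm (c3 h4)) * s * (levC h3 (pm (c3 h4)))⁻¹ = fp (F := F) d12 := levC_fp h3 _ _ _ cc0 cc1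
  have h13 : levC h3 (pm g13) * s * (levC h3 (pm g13))⁻¹ = fp (F := F) d13 := levC_fp h3 _ _ _ hg0 hg1
  have hflips := fun X => truth_act h4 hb h3 d01 X
  have hfix := fun X => truth_fix h4 hb h3 d01 X
  have hmid := fun X Y => truth_mid h4 hb h3 d12 X Y
  have hfour := fun X Y => truth_four h4 hb h3 d13 X Y
  refine (Seven.On.adjoin hA (levC h3) s (fun K hK hKs => ?_) E (fun r hr => ?_) fun H _ α T hE => ?_).presN
  · have hfp : ∀ {i j : Fin n} (hij : i ≠ j), fp (F := F) hij ∈ K := by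
      intro i j hij
      obtain ⟨k, hki, hkj, -⟩ := fresh4 h4 i j i
      obtain ⟨m, hmi, hmj, hmk⟩ := fresh4 h4 i j k
      obtain ⟨g, g0, g1, -⟩ := exists_four' d01 d02 d12 d03 d13 d23 hij hki.symm hkj.symm hmi.symm hmj.symm hmk.symm
      rw [← levC_fp h3 g d01 hij g0 g1]
      exact K.mul_mem (K.mul_mem (hK ⟨_, rfl⟩) hKs) (K.inv_mem (hK ⟨_, rfl⟩))
    refine levC_sup h3 d01.symm K (fun A => hK ⟨A, rfl⟩) fun A => ?_
    suffices h : K.comap (levC2 h3 (q 0)) = ⊤ from (h ▸ Subgroup.mem_top A : A ∈ K.comap (levC2 h3 (q 0)))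
    refine Classical.Linear.eq_top_of_transvection_mem _ fun i j hij c => ?_
    obtain ⟨k, hki, hkj, hk0⟩ := fresh4 h4 i j (q 0)
    rw [← T_eq hij, Subgroup.mem_comap, show levC2 h3 (q 0) (SimpleFacts.SLnRootLifts.T i j c) =
      fp hk0.symm * levC h3 (SimpleFacts.SLnRootLifts.T i j c) * (fp (F := F) hk0.symm)⁻¹ from
      Subtype.ext (flips_one hij hki.symm hkj.symm c).symm]
    exact K.mul_mem (K.mul_mem (hfp _) (hK ⟨_, rfl⟩)) (K.inv_mem (hfp _))
  · simp only [E, List.mem_cons, List.mem_append, List.mem_map] at hr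
    rcases hr with ⟨σ, -, rfl⟩ | rfl | rfl | rfl | rfl | hr
    all_goals try simp only [y, l, y12, w23, y13, map_commutatorElement, map_mul, map_inv, Seven.cop_inl,
      Seven.cop_inr, commutatorElement_eq_one_iff_commute, mul_inv_eq_one]
    · refine (mul_inv_eq_iff_eq_mul.1 ?_).symm
      rcases psi_ord h4 σ with ⟨e0, e1⟩ | ⟨e0, e1⟩
      · exact levC_fp h3 _ d01 d01 e0 e1
      · rw [levC_fp h3 _ d01 d01.symm e0 e1]
        exact Subtype.ext (flip_comm' _ _)
    · rw [h12, ← map_mul (levC (F := F) h3), ← map_mul pm,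
        levC_fp h3 (c3 h4 * c3 h4) d01 d02.symm (by show (c3 h4).1 ((c3 h4).1 (q 0)) = q 2; rw [cc0, cc1])
          (by show (c3 h4).1 ((c3 h4).1 (q 1)) = q 0; rw [cc1, cc2])]
      refine Subtype.ext ?_
      show flip n F (q 0) * flip n F (q 1) * (flip n F (q 1) * flip n F (q 2)) = flip n F (q 2) * flip n F (q 0)
      rw [mul_assoc, ← mul_assoc (flip n F (q 1)), flip_sq, one_mul, flip_comm']
    · simpa only [map_mul, map_inv] using hfix v
    · exact hflips v
    · rw [h12]; exact hmid u u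
    · split_ifs at hr
      · simp only [List.mem_cons, List.not_mem_nil, or_false] at hr
        rcases hr with rfl | rfl | rfl
        · simp only [y, map_mul, Seven.cop_inr]
          refine Subtype.ext ?_
          show flip n F (q 0) * flip n F (q 1) * (flip n F (q 0) * flip n F (q 1)) = 1
          rw [flip_comm' (q 0) (q 1), mul_assoc, flip_comm' (q 1) (q 0), ← mul_assoc (flip n F (q 0)), flip_sq,
            one_mul, flip_sq]
        all_goals
          simp only [y, l, w23, y13, map_commutatorElement, map_mul, map_inv, Seven.cop_inl, Seven.cop_inr,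
            commutatorElement_eq_one_iff_commute, h13]
          rw [← map_inv (levC (F := F) h3), ← map_mul, ← map_mul]
          exact hfour _ _
      · simp at hr
  have h1 : ∀ r ∈ E.take S.length, Seven.cop α T r = 1 := fun r hr => hE r (List.mem_of_mem_take hr)
  have hstab : ∀ g : alternatingGroup (Fin n), Ord (q 0) (q 1) (g.1 (q 0)) (g.1 (q 1)) → Commute T (α (pm g)) := by
    intro g hg
    obtain ⟨σ, rfl⟩ := psi_surj h4 g hg
    have : Subgroup.closure {x | x ∈ S} ≤
        (Subgroup.centralizer ({T} : Set H)).comap (α.comp (pm.comp (psi h4))) := by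
      rw [Subgroup.closure_le]
      intro σ hσ
      have := hE _ (List.mem_append_left _ (List.mem_map.2 ⟨σ, hσ, rfl⟩))
      simp only [y, l, map_commutatorElement, Seven.cop_inl, Seven.cop_inr,
        commutatorElement_eq_one_iff_commute] at this
      exact Subgroup.mem_centralizer_singleton_iff.2 this.symm.eq
    exact (show Commute (α (pm (psi h4 σ))) T from
      Subgroup.mem_centralizer_singleton_iff.1 (this (hS ▸ Subgroup.mem_top σ))).symm
  simp only [E, List.forall_mem_append, List.forall_mem_cons, y, l, y12, w23, map_commutatorElement, map_mul,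
    map_inv, Seven.cop_inl, Seven.cop_inr, commutatorElement_eq_one_iff_commute, mul_inv_eq_one] at hE
  obtain ⟨-, r2, r3, r4, r5, r6⟩ := hE
  have R : Rl h4 b α T v u g13 := by
    refine ⟨hstab, ?_, r3, r4, r5, fun hn => ?_, fun hn X hX => ?_⟩
    · rw [map_mul pm, map_mul α]; exact r2
    · rw [if_pos hn] at r6
      simpa using r6 _ (List.mem_cons_self ..)
    · rw [if_pos hn] at r6
      rcases hX with rfl | rfl
      · have := r6 _ (List.mem_cons_of_mem _ (List.mem_cons_self ..))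
        simp only [y, l, y13, w23, map_commutatorElement, map_mul, map_inv, Seven.cop_inl, Seven.cop_inr,
          commutatorElement_eq_one_iff_commute] at this
        exact this
      · have := r6 _ (List.mem_cons_of_mem _ (List.mem_cons_of_mem _ (List.mem_cons_self ..)))
        simp only [y, l, y13, w23, map_commutatorElement, map_mul, map_inv, Seven.cop_inl, Seven.cop_inr,
          commutatorElement_eq_one_iff_commute] at this
        exact this
  obtain ⟨ee, hN, he⟩ := R.exists_net hb hg0 hg1 hv hu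
  obtain ⟨φ, hφ, hφ'⟩ := hN.exists_hom h4
  exact ⟨φ, MonoidHom.ext hφ, (hφ' d01).trans he⟩

theorem plus_four : PresN (commutator (Oplus 4 F)) 8 29 := by
  obtain ⟨f, hf⟩ := sl_four (F := F)
  obtain ⟨S, hl, hS⟩ := gens_two
  have := pres_core (F := F) (le_refl 4) (show Seven.On f 19 from hf) S hS
  rw [hl] at this
  exact (this.pads 2).mono (by norm_num)

theorem plus_five : PresN (commutator (Oplus 5 F)) 8 29 := by
  obtain ⟨f, hf⟩ := sl_five (F := F)
  obtain ⟨S, hl, hS⟩ := gens_pair (n := 5) (by norm_num)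
  have := pres_core (F := F) (show 4 ≤ 5 by norm_num) (show Seven.On f 21 from hf) S hS
  rw [hl] at this
  exact (this.pads 2).mono (by norm_num)

theorem plus_big (hn : 6 ≤ n) : PresN Ωp 8 31 := by
  obtain ⟨f, hf⟩ := sl_big (F := F) hn
  obtain ⟨S, hl, hS⟩ := gens_pair (n := n) (by omega)
  have := pres_core (F := F) (show 4 ≤ n by omega) (show Seven.On f 24 from hf) S hS
  rw [hl, if_neg (by omega : n ≠ 4)] at this
  exact (this.pads 1).mono (by norm_num)

theorem plus_small (hn : 4 ≤ n) (hn' : n ≤ 5) : PresN Ωp 8 29 := by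
  obtain rfl | rfl : n = 4 ∨ n = 5 := by omega
  exacts [plus_four, plus_five]

theorem plus_all (hn : 4 ≤ n) : PresN Ωp 8 31 := by
  rcases Nat.lt_or_ge n 6 with h | h
  · exact (plus_small hn (by omega)).mono (by norm_num)
  · exact plus_big h

end Cfsg.Agent.ShortPres.Plus
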