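import Cfsg.Agent.Lib.ShortPres.Joint.Swapped
import Mathlib

/-!
`SL₂` is generated by one matrix and its transposed inverse.
-/

set_option autoImplicit false
set_option linter.unusedSectionVars false

namespace Cfsg.Agent.ShortPres.Plus

open Cfsg.Agent.Classical.GL2 Cfsg.Agent.Forms Cfsg.Agent.ShortPres.Joint
open scoped MatrixGroups

variable {F : Type*} [Field F]

/-- The transposed inverse. -/
def ti : SL(2, F) →* SL(2, F) where
  toFun X := ⟨!![X.1 1 1, -X.1 1 0; -X.1 0 1, X.1 0 0], by
    have h := Matrix.SpecialLinearGroup.det_coe X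
    rw [Matrix.det_fin_two] at h
    rw [Matrix.det_fin_two_of]; linear_combination h⟩
  map_one' := mat_ext (by
    ext i j; fin_cases i <;> fin_cases j <;> simp)
  map_mul' X Y := mat_ext (by
    show _ = !![X.1 1 1, -X.1 1 0; -X.1 0 1, X.1 0 0] * !![Y.1 1 1, -Y.1 1 0; -Y.1 0 1, Y.1 0 0]
    ext i j; fin_cases i <;> fin_cases j <;>
      simp [Matrix.SpecialLinearGroup.coe_mul, Matrix.mul_apply, Fin.sum_univ_two] <;> ring)

theorem coe_ti (X : SL(2, F)) :
    (ti X : Matrix (Fin 2) (Fin 2) F) = !![X.1 1 1, -X.1 1 0; -X.1 0 1, X.1 0 0] := rfl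

theorem ti_ti (X : SL(2, F)) : ti (ti X) = X := mat_ext (by
  ext i j; fin_cases i <;> fin_cases j <;> simp [coe_ti])

theorem ti_uni (c : F) : ti (uniSL c) = lowSL (-c) ∧ ti (lowSL c) = uniSL (-c) := by
  constructor <;>
    exact mat_ext (by ext i j; fin_cases i <;> fin_cases j <;> simp [coe_ti, coe_uniSL, coe_lowSL])

theorem ti_neg : ti (-1 : SL(2, F)) = -1 := mat_ext (by
  ext i j; fin_cases i <;> fin_cases j <;> simp [coe_ti, Matrix.SpecialLinearGroup.coe_neg])

theorem ti_st : ti (stEl : SL(2, F)) = stEl := mat_ext (by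
  ext i j; fin_cases i <;> fin_cases j <;> simp [coe_ti, coe_stEl])

/-- Scaling by a diagonal matrix. -/
def dsc (a : Fˣ) : SL(2, F) →* SL(2, F) where
  toFun X := ⟨!![X.1 0 0, (a : F) * X.1 0 1; (a : F)⁻¹ * X.1 1 0, X.1 1 1], by
    have h := Matrix.SpecialLinearGroup.det_coe X
    rw [Matrix.det_fin_two] at h
    have ha := mul_inv_cancel₀ a.ne_zero
    rw [Matrix.det_fin_two_of]; linear_combination h - X.1 0 1 * X.1 1 0 * ha⟩
  map_one' := mat_ext (by
    ext i j; fin_cases i <;> fin_cases j <;> simp)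
  map_mul' X Y := mat_ext (by
    have ha := mul_inv_cancel₀ a.ne_zero
    show _ = !![X.1 0 0, (a : F) * X.1 0 1; (a : F)⁻¹ * X.1 1 0, X.1 1 1] *
      !![Y.1 0 0, (a : F) * Y.1 0 1; (a : F)⁻¹ * Y.1 1 0, Y.1 1 1]
    ext i j; fin_cases i <;> fin_cases j <;>
      simp [Matrix.SpecialLinearGroup.coe_mul, Matrix.mul_apply, Fin.sum_univ_two] <;> grind)

theorem coe_dsc (a : Fˣ) (X : SL(2, F)) :
    (dsc a X : Matrix (Fin 2) (Fin 2) F) = !![X.1 0 0, (a : F) * X.1 0 1; (a : F)⁻¹ * X.1 1 0, X.1 1 1] := rfl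

theorem dsc_surj (a : Fˣ) : Function.Surjective (dsc a : SL(2, F) →* SL(2, F)) := fun X =>
  ⟨dsc a⁻¹ X, mat_ext (by ext i j; fin_cases i <;> fin_cases j <;> simp [coe_dsc])⟩

theorem ti_dsc {a : Fˣ} (h : (a : F) * a = -1) (X : SL(2, F)) : ti (dsc a X) = dsc a (sw X) := by
  have hi : (a : F)⁻¹ = -a := inv_eq_of_mul_eq_one_right (by linear_combination -h)
  exact mat_ext (by ext i j; fin_cases i <;> fin_cases j <;> simp [coe_ti, coe_dsc, coe_sw, hi])

variable (F) in
/-- One matrix and its transposed inverse generate. -/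
theorem exists_starred [Fintype F] : ∃ v : SL(2, F), Subgroup.closure ({v, ti v} : Set SL(2, F)) = ⊤ := by
  classical
  by_cases hi : ∃ a : Fˣ, (a : F) * a = -1
  · obtain ⟨a, ha⟩ := hi
    obtain ⟨v, hv⟩ := exists_swapped F
    refine ⟨dsc a v, ?_⟩
    rw [ti_dsc ha, ← Set.image_pair, ← MonoidHom.map_closure, hv]
    exact Subgroup.map_top_of_surjective _ (dsc_surj a)
  push Not at hi
  have hns : ∀ x : F, x * x ≠ -1 := fun x hx => by
    have hx0 : x ≠ 0 := fun e => by rw [e, mul_zero] at hx; exact one_ne_zero (α := F) (neg_eq_zero.1 hx.symm)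
    exact hi (Units.mk0 x hx0) hx
  obtain ⟨p, hpc⟩ := CharP.exists F
  haveI := hpc
  haveI hpf : Fact p.Prime := ⟨CharP.char_is_prime F p⟩
  obtain ⟨l, -, hl⟩ := FiniteField.card F p
  by_cases h1 : (l : ℕ) = 1
  · refine ⟨uniSL 1, ?_⟩
    rw [(ti_uni 1).1]
    set K := Subgroup.closure ({uniSL (1 : F), lowSL (-1)} : Set SL(2, F))
    have hlow : lowSL (1 : F) ∈ K := by
      have : lowSL (1 : F) = (lowSL (-1))⁻¹ := eq_inv_of_mul_eq_one_left (mat_ext (by
        ext i j; fin_cases i <;> fin_cases j <;> simp [coe_lowSL, Matrix.mul_apply, Fin.sum_univ_two]))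
      rw [this]; exact K.inv_mem (Subgroup.subset_closure (Or.inr rfl))
    have hu1 : uniSL (1 : F) ∈ K := Subgroup.subset_closure (Or.inl rfl)
    have hnat : ∀ c : F, ∃ k : ℕ, (k : F) = c := by
      intro c
      have hb : Function.Bijective (fun x : ZMod p => (ZMod.castHom dvd_rfl F x : F)) := by
        refine (Fintype.bijective_iff_injective_and_card _).2 ⟨(ZMod.castHom dvd_rfl F).injective, ?_⟩
        rw [ZMod.card, hl, h1, pow_one]
      obtain ⟨x, hx⟩ := hb.2 c
      exact ⟨x.val, by rw [← hx]; simp⟩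
    have hu : ∀ k : ℕ, uniSL (k : F) ∈ K ∧ lowSL (k : F) ∈ K := by
      intro k
      induction k with
      | zero =>
        refine ⟨by rw [Nat.cast_zero, uniSL_zero]; exact one_mem _, ?_⟩
        convert one_mem K
        exact mat_ext (by ext i j; fin_cases i <;> fin_cases j <;> simp [coe_lowSL])
      | succ k ih =>
        refine ⟨?_, ?_⟩
        · rw [Nat.cast_succ, ← uniSL_mul]; exact K.mul_mem ih.1 hu1
        · have : lowSL ((k + 1 : ℕ) : F) = lowSL (k : F) * lowSL 1 := mat_ext (by
            ext i j; fin_cases i <;> fin_cases j <;> simp [coe_lowSL, Matrix.mul_apply, Fin.sum_univ_two])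
          rw [this]; exact K.mul_mem ih.2 hlow
    refine Classical.Linear.eq_top_of_transvection_mem K fun i j hij c => ?_
    obtain ⟨k, rfl⟩ := hnat c
    fin_cases i <;> fin_cases j <;> first | exact absurd rfl hij | skip
    · convert (hu k).1
      refine mat_ext ?_
      rw [coe_uniSL]
      ext a b; fin_cases a <;> fin_cases b <;> simp [Matrix.SpecialLinearGroup.transvection, Matrix.transvection]
    · convert (hu k).2
      refine mat_ext ?_
      rw [coe_lowSL]
      ext a b; fin_cases a <;> fin_cases b <;> simp [Matrix.SpecialLinearGroup.transvection, Matrix.transvection]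
  have hl2 : 2 ≤ (l : ℕ) := by have := l.pos; omega
  have h49 : ¬ (Fintype.card F = 4 ∨ Fintype.card F = 9) := by
    intro h
    have hm : Fintype.card F % 4 = 3 := by
      by_contra hne
      exact (FiniteField.isSquare_neg_one_iff.2 hne).elim fun x hx => hns x hx.symm
    omega
  obtain ⟨z, hz⟩ := IsCyclic.exists_generator (α := Fˣ)
  refine ⟨vT z 1, gen_core p hz one_ne_zero ti ti_ti ti_neg ?_ ?_ ?_ ⟨l, hl2, hl⟩ fun h => absurd h h49⟩
  · intro X h
    rw [coe_ti]; simpa using h
  · intro h4 hcomm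
    rw [← map_mul, ← map_mul, KleinPSL.pi_eq_iff] at hcomm
    have hzi := mul_inv_cancel₀ z.ne_zero
    have e1 : ((vT z 1 * ti (vT z 1) : SL(2, F)) : Matrix (Fin 2) (Fin 2) F) =
        !![(z : F) * (z : F)⁻¹ - 1, (z : F); -(z : F)⁻¹, 1] := by
      rw [Matrix.SpecialLinearGroup.coe_mul, coe_ti, show (vT z 1).1 = !![(z : F), 1; 0, (z : F)⁻¹] from rfl]
      ext i j; fin_cases i <;> fin_cases j <;> simp [Matrix.mul_apply, Fin.sum_univ_two] <;> ring
    have e2 : ((ti (vT z 1) * vT z 1 : SL(2, F)) : Matrix (Fin 2) (Fin 2) F) =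
        !![1, (z : F)⁻¹; -(z : F), (z : F) * (z : F)⁻¹ - 1] := by
      rw [Matrix.SpecialLinearGroup.coe_mul, coe_ti, show (vT z 1).1 = !![(z : F), 1; 0, (z : F)⁻¹] from rfl]
      ext i j; fin_cases i <;> fin_cases j <;> simp [Matrix.mul_apply, Fin.sum_univ_two] <;> ring
    rcases hcomm with e | e
    · have h00 := congrFun (congrFun (congrArg Subtype.val e) 0) 0
      rw [e1, e2] at h00
      simp at h00
    · have h01 := congrFun (congrFun (congrArg Subtype.val e) 0) 1
      rw [e1, Matrix.SpecialLinearGroup.coe_neg, Matrix.neg_apply, e2] at h01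
      simp at h01
      exact hns (z : F) (by linear_combination (z : F) * h01 - hzi)
  · intro x hA hB
    cases x with
    | infty =>
      rw [DicksonAction.smul_infty_iff, coe_ti] at hB
      simp [vT] at hB
    | coe y =>
      rw [DicksonAction.smul_coe_iff] at hA hB
      rw [coe_ti] at hB
      simp [vT] at hA hB
      set f := algebraMap F (AlgebraicClosure F) with hf
      have h1 : (f (z : F))⁻¹ * y - f (z : F) * y = 1 := by linear_combination hA
      have hy0 : y ≠ 0 := fun e => by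
        rw [e] at h1; simp at h1
      have h2 : y = f (z : F) - (f (z : F))⁻¹ := by
        have : y * (y - (f (z : F) - (f (z : F))⁻¹)) = 0 := by linear_combination -hB
        linear_combination (mul_eq_zero.1 this).resolve_left hy0
      refine hns ((z : F)⁻¹ - z) (f.injective ?_)
      simp only [map_mul, map_sub, map_inv₀, map_neg, map_one]
      linear_combination (-1 : AlgebraicClosure F) * h1 + ((f (z : F))⁻¹ - f (z : F)) * h2

end Cfsg.Agent.ShortPres.Plus
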